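import Mathlib
import Cfsg.Agent.H263.ChermakDelgado
import Cfsg.Agent.H947.Cyc.Basic_m3
import Cfsg.Agent.FastGrp
import Cfsg.Agent.Prune
set_option linter.all false

section
prune_inst 0x7f00000000000000000000000000000000000000000000000000000000000000000000000000000000000000000000000000000000000000000000000000000000000000000000000000000000000000003fffffffffffffffffffffffffffbeffbdffffffff

-- part: H57/BG/Kill
section
set_option linter.all false
open scoped Cfsg.Agent.FastGrp

-- part: H57/BG/Defs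
section
/-!
# Abelian regular subgroups of almost simple primitive groups (S3561, helper57)

`S` a finite non-abelian simple group.  `Reg A L` : `A` is an abelian subgroup of `Aut(S)` acting regularly on the
conjugates of the self-normalising proper subgroup `L` of `S`, `|A| = |S : L|` is not a prime power, no Sylow subgroup
of `A` (except the trivial ones) is cyclic, `A` is not the direct product of two or more subgroups of the same order `≥ 3`, `S` is not 2-transitive on `S / L` (and `L` is maximal in the sense of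
`prim`).  This is what is left of S3561 for almost simple groups.  `Row S` : there is no such pair.

Consequences of `h : Reg A L` (`Inn S = (MulAut.conj : S →* MulAut S).range`, `Out = Inn.index`):
* `h.sq_dvd` : `r ∣ |S : L| → r ^ 2 ∣ |S : L|`;
* `h.not_dvd_index` : `r ∤ |Out|`, the `r`-subgroups of `S` are cyclic ⇒ `r ∤ |S : L|`;
* `h.dvd_card` : the same, `r ∣ |S|` ⇒ `r ∣ |L|`;
* `h.exists_pair` : `r ∣ |S : L|`, `r ∤ |Out|` ⇒ there are commuting `x`, `y` of order `r` in `A ∩ Inn S`, `y ∉ ⟨x⟩`;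
  `h.comm_elt` : elements of `A ∩ Inn S` commute;
* `h.index_dvd` : `|S : L| ∣ |A₀| |Out|` for `A₀ = {s | conj s ∈ A}`, and `A₀` is abelian;
* `h.index_dvd_cent` : `|S : L| ∣ |C_S(X)| |Out|` for every `X ⊆ A₀`;
* `h.not_mem` : no element `≠ 1` of `A₀` is conjugate into `L`;
* `h.sylow_comm` : `r ∤ |L|`, `r ∤ |Out|` ⇒ the `r`-subgroups of `S` are abelian.
-/

set_option autoImplicit false

namespace Cfsg.Agent.H57.BG

open Subgroup

universe u v

/-- `A` is the internal direct product of `r ≥ 2` subgroups of the same order `m ≥ 3` -/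
def EqFac (A : Type*) [Group A] : Prop :=
  ∃ (m r : ℕ) (f : Fin r → Subgroup A), 3 ≤ m ∧ 2 ≤ r ∧ iSupIndep f ∧ (⨆ i, f i) = ⊤ ∧ ∀ i, Nat.card ↥(f i) = m

/-- an abelian subgroup of `Aut S`, regular on the conjugates of `L` -/
structure Reg {S : Type u} [Group S] (A : Subgroup (MulAut S)) (L : Subgroup S) : Prop where
  comm : ∀ a ∈ A, ∀ b ∈ A, a * b = b * a
  proper : L ≠ ⊤
  card : Nat.card A = L.index
  norm : normalizer (L : Set S) = L
  trans : ∀ s : S, ∃ a ∈ A, L.map a.toMonoidHom = L.map (MulAut.conj s).toMonoidHom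
  free : ∀ a ∈ A, ∀ s : S, (L.map (MulAut.conj s).toMonoidHom).map a.toMonoidHom =
    L.map (MulAut.conj s).toMonoidHom → a = 1
  npp : ¬ IsPrimePow (Nat.card A)
  big : ∀ p : ℕ, p.Prime → p ∣ Nat.card A → p ^ 2 ≤ Nat.card {a : A // a ^ p = 1}
  notTwo : ¬ MulAction.IsMultiplyPretransitive S (S ⧸ L) 2
  prim : ∃ B : Subgroup (MulAut S), A ≤ B ∧ (∀ s : S, MulAut.conj s ∈ B) ∧ ∀ M : Subgroup S, L ≤ M →
    (∀ b ∈ B, L.map b.toMonoidHom = L → M.map b.toMonoidHom = M) → M = L ∨ M = ⊤
  nf : ¬ EqFac A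

/-- the row of `S` -/
def Row (S : Type u) [Group S] : Prop := ∀ (A : Subgroup (MulAut S)) (L : Subgroup S), ¬ Reg A L

end Cfsg.Agent.H57.BG
end

-- part: H57/BG/Kill
section
/-!
# Abelian regular subgroups of almost simple primitive groups: consequences of `Reg A L` (S3561, helper57)
-/

set_option autoImplicit false
set_option linter.unusedSectionVars false

namespace Cfsg.Agent.H57.BG

open Subgroup

universe u v

variable {S : Type u} [Group S]

/-- the inner automorphisms -/
abbrev Inn (S : Type u) [Group S] : Subgroup (MulAut S) := (MulAut.conj : S →* MulAut S).range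

instance inn_normal : (Inn S).Normal := by
  constructor
  rintro _ ⟨s, rfl⟩ φ
  exact ⟨φ s, by ext x; simp [MulAut.conj_apply]⟩

theorem conj_injective (hc : center S = ⊥) : Function.Injective (MulAut.conj : S →* MulAut S) := by
  rw [injective_iff_map_eq_one]
  intro g hg
  rw [← mem_bot, ← hc, mem_center_iff]
  intro x
  have h2 := DFunLike.congr_fun hg x
  simp only [MulAut.conj_apply, MulAut.one_apply] at h2
  exact (mul_inv_eq_iff_eq_mul.1 h2).symm

/-- the inner part of `A`, as a subgroup of `S` -/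
def inner (A : Subgroup (MulAut S)) : Subgroup S := A.comap (MulAut.conj : S →* MulAut S)

instance finite_mulAut [Finite S] : Finite (MulAut S) :=
  Finite.of_injective (fun f : MulAut S => (f : S → S)) DFunLike.coe_injective

section

variable {A : Subgroup (MulAut S)} {L : Subgroup S}

theorem card_inner (hc : center S = ⊥) : Nat.card (inner A) = Nat.card (Inn S ⊓ A : Subgroup (MulAut S)) := by
  have h1 : (inner A).map (MulAut.conj : S →* MulAut S) = Inn S ⊓ A := by
    rw [inner, Subgroup.map_comap_eq]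
  rw [← h1]
  exact Nat.card_congr ((inner A).equivMapOfInjective _ (conj_injective hc)).toEquiv

theorem card_dvd (hc : center S = ⊥) : Nat.card A ∣ Nat.card (inner A) * (Inn S).index := by
  rw [card_inner hc, ← relIndex_bot_left, ← relIndex_bot_left]
  have h1 := relIndex_mul_relIndex (⊥ : Subgroup (MulAut S)) (Inn S ⊓ A) A bot_le inf_le_right
  rw [← h1, inf_relIndex_right]
  exact Nat.mul_dvd_mul dvd_rfl (relIndex_dvd_index_of_normal _ _)

/-- the elements `a` of `A` with `a ^ r = 1` -/
def tor (A : Subgroup (MulAut S)) (hA : ∀ a ∈ A, ∀ b ∈ A, a * b = b * a) (r : ℕ) : Subgroup (MulAut S) where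
  carrier := {a | a ∈ A ∧ a ^ r = 1}
  one_mem' := ⟨A.one_mem, one_pow r⟩
  mul_mem' := by
    rintro a b ⟨ha, ha'⟩ ⟨hb, hb'⟩
    exact ⟨A.mul_mem ha hb, by rw [(show Commute a b from hA a ha b hb).mul_pow, ha', hb', one_mul]⟩
  inv_mem' := by
    rintro a ⟨ha, ha'⟩
    exact ⟨A.inv_mem ha, by rw [inv_pow, ha', inv_one]⟩

theorem card_tor (hA : ∀ a ∈ A, ∀ b ∈ A, a * b = b * a) (r : ℕ) :
    Nat.card (tor A hA r) = Nat.card {a : A // a ^ r = 1} := by
  refine Nat.card_congr ⟨fun x => ⟨⟨x.1, x.2.1⟩, Subtype.ext x.2.2⟩, fun x => ⟨x.1.1, x.1.2, congrArg Subtype.val x.2⟩,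
    fun x => rfl, fun x => rfl⟩

theorem tor_le (hA : ∀ a ∈ A, ∀ b ∈ A, a * b = b * a) (r : ℕ) : tor A hA r ≤ A := fun _ h => h.1

theorem isPGroup_tor (hA : ∀ a ∈ A, ∀ b ∈ A, a * b = b * a) (r : ℕ) : IsPGroup r (tor A hA r) := fun x =>
  ⟨1, by rw [pow_one]; exact Subtype.ext x.2.2⟩

/-- an element of order prime to `|Out S|` is inner -/
theorem mem_inn_of_pow {r : ℕ} (hr : r.Prime) (hout : ¬ r ∣ (Inn S).index) {a : MulAut S} {k : ℕ}
    (ha : a ^ r ^ k = 1) : a ∈ Inn S := by
  have h0 : (Inn S).index ≠ 0 := fun h => hout (h ▸ dvd_zero r)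
  have h1 : (QuotientGroup.mk' (Inn S) a) ^ (r ^ k) = 1 := by rw [← map_pow, ha, map_one]
  have h2 : (QuotientGroup.mk' (Inn S) a) ^ (Inn S).index = 1 := by
    rw [Subgroup.index_eq_card]
    haveI : Finite (MulAut S ⧸ Inn S) := by
      apply Nat.finite_of_card_ne_zero
      rwa [← Subgroup.index_eq_card]
    exact pow_card_eq_one'
  have h3 : Nat.Coprime (r ^ k) (Inn S).index := Nat.Coprime.pow_left k ((Nat.Prime.coprime_iff_not_dvd hr).2 hout)
  have h4 : QuotientGroup.mk' (Inn S) a = 1 := by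
    have := pow_gcd_eq_one.2 ⟨h1, h2⟩
    rwa [h3.gcd_eq_one, pow_one] at this
  exact (QuotientGroup.eq_one_iff a).1 h4

end

namespace Reg

variable [Finite S] {A : Subgroup (MulAut S)} {L : Subgroup S} (h : Reg A L)

include h

theorem index_ne_one : L.index ≠ 1 := fun h1 => h.proper (Subgroup.index_eq_one.1 h1)

theorem not_isPrimePow : ¬ IsPrimePow L.index := by rw [← h.card]; exact h.npp

theorem exists_pow_tor {r : ℕ} (hr : r.Prime) (hd : r ∣ L.index) : ∃ k, 2 ≤ k ∧ Nat.card (tor A h.comm r) = r ^ k := by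
  haveI : Fact r.Prime := ⟨hr⟩
  obtain ⟨k, hk⟩ := (isPGroup_tor h.comm r).exists_card_eq
  refine ⟨k, ?_, hk⟩
  have h1 := h.big r hr (by rw [h.card]; exact hd)
  rw [← card_tor h.comm, hk] at h1
  exact (Nat.pow_le_pow_iff_right hr.one_lt).1 h1

/-- **`r` divides the index with its square** -/
theorem sq_dvd {r : ℕ} (hr : r.Prime) (hd : r ∣ L.index) : r ^ 2 ∣ L.index := by
  obtain ⟨k, hk, hc⟩ := h.exists_pow_tor hr hd
  rw [← h.card]
  exact ((pow_dvd_pow r hk).trans (hc ▸ dvd_rfl)).trans (Subgroup.card_dvd_of_le (tor_le h.comm r))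

theorem exists_two_primes : ∃ r s : ℕ, r.Prime ∧ s.Prime ∧ r ≠ s ∧ r ^ 2 ∣ L.index ∧ s ^ 2 ∣ L.index := by
  have h0 : L.index ≠ 0 := Subgroup.index_ne_zero_of_finite
  obtain ⟨r, hr, hd⟩ := Nat.exists_prime_and_dvd h.index_ne_one
  by_contra hcon
  push Not at hcon
  apply h.not_isPrimePow
  have h1 := Nat.eq_prime_pow_of_unique_prime_dvd h0 (fun {d} hd' hdd => by
    by_contra hne
    exact hcon r d hr hd' (Ne.symm hne) (h.sq_dvd hr hd) (h.sq_dvd hd' hdd))
  rw [h1]
  apply hr.isPrimePow.pow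
  intro h2
  rw [h2, pow_zero] at h1
  exact h.index_ne_one h1

theorem inner_comm (hc : center S = ⊥) {x y : S} (hx : x ∈ inner A) (hy : y ∈ inner A) : x * y = y * x := by
  apply conj_injective hc
  rw [map_mul, map_mul]
  exact h.comm _ hx _ hy

omit [Finite S] in
theorem apply_eq (hc : center S = ⊥) {a : MulAut S} (ha : a ∈ A) {x : S} (hx : x ∈ inner A) : a x = x := by
  apply conj_injective hc
  have h1 := h.comm a ha _ hx
  have h2 : MulAut.conj (a x) = a * MulAut.conj x * a⁻¹ := by
    ext y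
    simp [MulAut.conj_apply]
  rw [h2, h1, mul_inv_cancel_right]

theorem index_dvd (hc : center S = ⊥) : L.index ∣ Nat.card (inner A) * (Inn S).index := by
  rw [← h.card]
  exact card_dvd hc

/-- `|S : L|` divides `|C_S(X)| |Out S|` for every set `X` of elements of `inner A` -/
theorem index_dvd_cent (hc : center S = ⊥) {X : Set S} (hX : X ⊆ inner A) :
    L.index ∣ Nat.card (centralizer X) * (Inn S).index := by
  refine (h.index_dvd hc).trans (Nat.mul_dvd_mul (Subgroup.card_dvd_of_le fun y hy => ?_) dvd_rfl)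
  rw [mem_centralizer_iff]
  intro x hx
  exact h.inner_comm hc (hX hx) hy

/-- the pair of commuting elements -/
theorem exists_pair (hc : center S = ⊥) {r : ℕ} (hr : r.Prime) (hd : r ∣ L.index) (hout : ¬ r ∣ (Inn S).index) :
    ∃ x y : S, x ∈ inner A ∧ y ∈ inner A ∧ orderOf x = r ∧ orderOf y = r ∧ y ∉ zpowers x := by
  obtain ⟨k, hk, hcard⟩ := h.exists_pow_tor hr hd
  have hin : ∀ a ∈ tor A h.comm r, ∃ s : S, MulAut.conj s = a := fun a ha =>
    mem_inn_of_pow hr hout (k := 1) (by rw [pow_one]; exact ha.2)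
  -- a non-trivial element
  obtain ⟨a, ha, ha1⟩ : ∃ a ∈ tor A h.comm r, a ≠ 1 := by
    by_contra hcon
    push Not at hcon
    have : Nat.card (tor A h.comm r) = 1 := Subgroup.card_eq_one.2 ((Subgroup.eq_bot_iff_forall _).2 hcon)
    rw [hcard] at this
    have := Nat.one_lt_pow (by omega : k ≠ 0) hr.one_lt
    omega
  have hao : orderOf a = r := orderOf_eq_prime ha.2 ha1 (hp := ⟨hr⟩)
  obtain ⟨b, hb, hba⟩ : ∃ b ∈ tor A h.comm r, b ∉ zpowers a := by
    by_contra hcon
    push Not at hcon
    have h1 : Nat.card (tor A h.comm r) ≤ Nat.card (zpowers a) := Subgroup.card_le_of_le hcon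
    rw [hcard, Nat.card_zpowers, hao] at h1
    have h2 : r ^ 2 ≤ r ^ k := Nat.pow_le_pow_right hr.pos hk
    have h3 : r * 2 ≤ r * r := Nat.mul_le_mul_left r hr.two_le
    have := hr.pos
    rw [pow_two] at h2
    omega
  have hb1 : b ≠ 1 := fun h => hba (h ▸ one_mem _)
  have hbo : orderOf b = r := orderOf_eq_prime hb.2 hb1 (hp := ⟨hr⟩)
  obtain ⟨x, rfl⟩ := hin a ha
  obtain ⟨y, rfl⟩ := hin b hb
  refine ⟨x, y, ha.1, hb.1, ?_, ?_, fun hyx => hba ?_⟩
  · rw [← hao, orderOf_injective _ (conj_injective hc)]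
  · rw [← hbo, orderOf_injective _ (conj_injective hc)]
  · obtain ⟨n, rfl⟩ := hyx
    exact ⟨n, by simp⟩

/-- **primes with cyclic Sylow subgroups do not divide the index** -/
theorem not_dvd_index (hc : center S = ⊥) {r : ℕ} (hr : r.Prime) (hout : ¬ r ∣ (Inn S).index)
    (hcyc : ∀ P : Subgroup S, IsPGroup r P → IsCyclic P) : ¬ r ∣ L.index := by
  intro hd
  obtain ⟨x, y, hx, hy, hxo, hyo, hyx⟩ := h.exists_pair hc hr hd hout
  haveI : Fact r.Prime := ⟨hr⟩
  -- the elements of `inner A` with `s ^ r = 1`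
  set E : Subgroup S :=
    { carrier := {s | s ∈ inner A ∧ s ^ r = 1}
      one_mem' := ⟨one_mem _, one_pow r⟩
      mul_mem' := by
        rintro a b ⟨ha, ha'⟩ ⟨hb, hb'⟩
        exact ⟨mul_mem ha hb, by rw [(show Commute a b from h.inner_comm hc ha hb).mul_pow, ha', hb', one_mul]⟩
      inv_mem' := by
        rintro a ⟨ha, ha'⟩
        exact ⟨inv_mem ha, by rw [inv_pow, ha', inv_one]⟩ } with hE
  have hEp : IsPGroup r E := fun s => ⟨1, by rw [pow_one]; exact Subtype.ext s.2.2⟩
  haveI := hcyc E hEp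
  have h1 : Nat.card E = r := by
    have h2 : Nat.card E ∣ r := by
      rw [← IsCyclic.exponent_eq_card (α := E)]
      exact Monoid.exponent_dvd_of_forall_pow_eq_one fun s => Subtype.ext s.2.2
    have h3 : r ∣ Nat.card E := by
      have := Subgroup.orderOf_dvd_natCard E (x := x) ⟨hx, by rw [← hxo]; exact pow_orderOf_eq_one x⟩
      rwa [hxo] at this
    exact Nat.dvd_antisymm h2 h3
  have h4 : zpowers x = E := by
    refine Subgroup.eq_of_le_of_card_ge (zpowers_le.2 ⟨hx, by rw [← hxo]; exact pow_orderOf_eq_one x⟩) ?_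
    rw [h1, Nat.card_zpowers, hxo]
  apply hyx
  rw [h4]
  exact ⟨hy, by rw [← hyo]; exact pow_orderOf_eq_one y⟩

/-- primes which divide `|S|` exactly once -/
theorem not_dvd_index_of_sq {r : ℕ} (hr : r.Prime) (hS : ¬ r ^ 2 ∣ Nat.card S) : ¬ r ∣ L.index :=
  fun hd => hS ((h.sq_dvd hr hd).trans (Subgroup.index_dvd_card L))

omit h in
theorem dvd_card_of_not_dvd {r : ℕ} (hr : r.Prime) (hS : r ∣ Nat.card S) (hd : ¬ r ∣ L.index) : r ∣ Nat.card L := by
  rw [← L.card_mul_index] at hS
  exact (hr.dvd_mul.1 hS).resolve_right hd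

/-- primes which divide `|S|` exactly once divide `|L|` -/
theorem dvd_card_of_sq {r : ℕ} (hr : r.Prime) (hS : r ∣ Nat.card S) (hS2 : ¬ r ^ 2 ∣ Nat.card S) :
    r ∣ Nat.card L :=
  dvd_card_of_not_dvd hr hS fun hd => hS2 ((h.sq_dvd hr hd).trans (Subgroup.index_dvd_card L))

/-- the full power of a prime with cyclic Sylow subgroups divides `|L|` -/
theorem pow_dvd_card (hc : center S = ⊥) {r k : ℕ} (hr : r.Prime) (hS : r ^ k ∣ Nat.card S)
    (hout : ¬ r ∣ (Inn S).index) (hcyc : ∀ P : Subgroup S, IsPGroup r P → IsCyclic P) : r ^ k ∣ Nat.card L := by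
  have h1 := h.not_dvd_index hc hr hout hcyc
  rw [← L.card_mul_index] at hS
  exact (Nat.Coprime.pow_left k ((Nat.Prime.coprime_iff_not_dvd hr).2 h1)).dvd_of_dvd_mul_right hS

/-- a prime power dividing the index and not `|Out S|` gives an element of `inner A` -/
theorem exists_inner (hc : center S = ⊥) {p k : ℕ} (hp : p.Prime) (hd : p ^ k ∣ L.index)
    (hout : ¬ p ^ k ∣ (Inn S).index) : ∃ z ∈ inner A, orderOf z = p := by
  have h1 : p ^ k ∣ Nat.card (inner A) * (Inn S).index := hd.trans (h.index_dvd hc)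
  have h2 : p ∣ Nat.card (inner A) := by
    by_contra hn
    exact hout ((Nat.Coprime.pow_left k ((Nat.Prime.coprime_iff_not_dvd hp).2 hn)).dvd_of_dvd_mul_left h1)
  have := Fact.mk hp
  obtain ⟨z, hz⟩ := exists_prime_orderOf_dvd_card' p h2
  exact ⟨z, z.2, by rw [Subgroup.orderOf_coe]; exact hz⟩

/-- if `r` does not divide `|L| |Out S|` then `inner A` contains a Sylow `r`-subgroup of `S` -/
theorem exists_sylow_le (hc : center S = ⊥) {r : ℕ} (hr : r.Prime) (hL : ¬ r ∣ Nat.card L)
    (hout : ¬ r ∣ (Inn S).index) : ∃ P : Sylow r S, (P : Subgroup S) ≤ inner A := by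
  have := Fact.mk hr
  obtain ⟨Q⟩ : Nonempty (Sylow r (inner A)) := inferInstance
  have hQ : IsPGroup r ((Q : Subgroup (inner A)).map (inner A).subtype) := Q.isPGroup'.map _
  obtain ⟨P, hP⟩ := hQ.exists_le_sylow
  refine ⟨P, ?_⟩
  have h1 : (Q : Subgroup (inner A)).map (inner A).subtype = P := by
    refine Subgroup.eq_of_le_of_card_ge hP ?_
    obtain ⟨k, hk⟩ := P.isPGroup'.exists_card_eq
    have h2 : r ^ k ∣ Nat.card S := by
      rw [← hk]
      exact Subgroup.card_subgroup_dvd_card _
    have h3 : r ^ k ∣ L.index := by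
      rw [← L.card_mul_index] at h2
      exact (Nat.Coprime.pow_left k ((Nat.Prime.coprime_iff_not_dvd hr).2 hL)).dvd_of_dvd_mul_left h2
    have h4 : r ^ k ∣ Nat.card (inner A) :=
      (Nat.Coprime.pow_left k ((Nat.Prime.coprime_iff_not_dvd hr).2 hout)).dvd_of_dvd_mul_right
        (h3.trans (h.index_dvd hc))
    have h5 : r ^ k ∣ Nat.card Q := by
      rw [← (Q : Subgroup (inner A)).card_mul_index] at h4
      exact (Nat.Coprime.pow_left k ((Nat.Prime.coprime_iff_not_dvd hr).2 Q.not_dvd_index)).dvd_of_dvd_mul_right h4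
    rw [Subgroup.card_map_of_injective (inner A).subtype_injective, hk]
    exact Nat.le_of_dvd Nat.card_pos h5
  rw [← h1]
  exact Subgroup.map_subtype_le _

/-- if `r` does not divide `|L| |Out S|` then the `r`-subgroups of `S` are abelian -/
theorem sylow_comm (hc : center S = ⊥) {r : ℕ} (hr : r.Prime) (hL : ¬ r ∣ Nat.card L)
    (hout : ¬ r ∣ (Inn S).index) (P : Subgroup S) (hP : IsPGroup r P) : ∀ x ∈ P, ∀ y ∈ P, x * y = y * x := by
  have := Fact.mk hr
  obtain ⟨Q, hQ⟩ := h.exists_sylow_le hc hr hL hout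
  obtain ⟨P', hP'⟩ := hP.exists_le_sylow
  obtain ⟨g, hg⟩ := MulAction.exists_smul_eq S P' Q
  intro x hx y hy
  have hg' : ∀ z ∈ P, g * z * g⁻¹ ∈ inner A := by
    intro z hz
    apply hQ
    rw [← hg, Sylow.coe_subgroup_smul]
    exact Subgroup.smul_mem_pointwise_smul z (MulAut.conj g) _ (hP' hz)
  have h1 := h.inner_comm hc (hg' x hx) (hg' y hy)
  have h2 : g * (x * y) * g⁻¹ = g * (y * x) * g⁻¹ := by
    calc g * (x * y) * g⁻¹ = (g * x * g⁻¹) * (g * y * g⁻¹) := by group
      _ = (g * y * g⁻¹) * (g * x * g⁻¹) := h1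
      _ = _ := by group
  exact mul_left_cancel (mul_right_cancel h2)

end Reg

section Transport

variable {S' : Type v} [Group S']

theorem congr_apply (e : S ≃* S') (a : MulAut S) (x : S) : (MulAut.congr e a) (e x) = e (a x) := by
  simp [MulAut.congr]

theorem congr_conj (e : S ≃* S') (s : S) : MulAut.congr e (MulAut.conj s) = MulAut.conj (e s) := by
  ext x
  obtain ⟨x, rfl⟩ := e.surjective x
  rw [congr_apply]
  simp [MulAut.conj_apply]

theorem map_congr (e : S ≃* S') (a : MulAut S) (M : Subgroup S) :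
    (M.map e.toMonoidHom).map (MulAut.congr e a).toMonoidHom = (M.map a.toMonoidHom).map e.toMonoidHom := by
  ext x
  constructor
  · rintro ⟨_, ⟨y, hy, rfl⟩, rfl⟩
    exact ⟨a y, ⟨y, hy, rfl⟩, (congr_apply e a y).symm⟩
  · rintro ⟨_, ⟨y, hy, rfl⟩, rfl⟩
    exact ⟨e y, ⟨y, hy, rfl⟩, congr_apply e a y⟩

theorem map_inj (e : S ≃* S') {M N : Subgroup S} : M.map e.toMonoidHom = N.map e.toMonoidHom ↔ M = N :=
  ⟨fun h => Subgroup.map_injective e.injective h, fun h => by rw [h]⟩

theorem EqFac.congr {A : Type*} {B : Type*} [Group A] [Group B] (e : A ≃* B) (h : EqFac A) : EqFac B := by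
  obtain ⟨d, r, f, hd, hr, hf1, hf2, hf3⟩ := h
  refine ⟨d, r, fun i => (f i).map e.toMonoidHom, hd, hr, ?_, ?_, fun i => ?_⟩
  · have h1 : iSupIndep (fun i => (e.mapSubgroup) (f i)) := hf1.map_orderIso _
    exact h1
  · have h1 : (⨆ i, e.mapSubgroup (f i)) = e.mapSubgroup (⨆ i, f i) := by
      rw [OrderIso.map_iSup]
    rw [hf2, map_top] at h1
    exact h1
  · rw [Subgroup.card_map_of_injective e.injective, hf3]

theorem Reg.congr {A : Subgroup (MulAut S)} {L : Subgroup S} (h : Reg A L) (e : S ≃* S') :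
    Reg (A.map (MulAut.congr e).toMonoidHom) (L.map e.toMonoidHom) where
  comm := by
    rintro _ ⟨a, ha, rfl⟩ _ ⟨b, hb, rfl⟩
    have := congrArg (MulAut.congr e).toMonoidHom (h.comm a ha b hb)
    rwa [map_mul, map_mul] at this
  proper := by
    intro h1
    apply h.proper
    rw [← map_inj e, h1]
    exact (Subgroup.map_top_of_surjective _ e.surjective).symm
  card := by
    rw [Subgroup.card_map_of_injective (MulAut.congr e).injective, h.card]
    exact (Subgroup.index_map_equiv L e).symm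
  norm := by rw [← Subgroup.map_equiv_normalizer_eq, h.norm]
  trans := by
    intro s
    obtain ⟨s, rfl⟩ := e.surjective s
    obtain ⟨a, ha, hs⟩ := h.trans s
    refine ⟨_, ⟨a, ha, rfl⟩, ?_⟩
    change (L.map e.toMonoidHom).map (MulAut.congr e a).toMonoidHom = _
    rw [map_congr, hs, ← congr_conj, map_congr]
  free := by
    rintro _ ⟨a, ha, rfl⟩ s hs
    obtain ⟨s, rfl⟩ := e.surjective s
    change ((L.map e.toMonoidHom).map _).map (MulAut.congr e a).toMonoidHom = _ at hs
    rw [← congr_conj, map_congr, map_congr, map_inj] at hs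
    rw [h.free a ha s hs, map_one]
  npp := by
    rw [Subgroup.card_map_of_injective (MulAut.congr e).injective]
    exact h.npp
  big := by
    intro p hp hd
    rw [Subgroup.card_map_of_injective (MulAut.congr e).injective] at hd
    refine (h.big p hp hd).trans (le_of_eq ?_)
    set φ := A.equivMapOfInjective (MulAut.congr e).toMonoidHom (MulAut.congr e).injective
    refine Nat.card_congr (Equiv.subtypeEquiv φ.toEquiv fun a => ?_)
    constructor
    · intro ha
      have := congrArg φ ha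
      rwa [map_pow, map_one] at this
    · intro ha
      apply φ.injective
      rw [map_pow, map_one]
      exact ha
  notTwo := by
    intro h1
    apply h.notTwo
    rw [MulAction.is_two_pretransitive_iff] at h1 ⊢
    intro a b c d
    obtain ⟨a, rfl⟩ := QuotientGroup.mk_surjective a
    obtain ⟨b, rfl⟩ := QuotientGroup.mk_surjective b
    obtain ⟨c, rfl⟩ := QuotientGroup.mk_surjective c
    obtain ⟨d, rfl⟩ := QuotientGroup.mk_surjective d
    intro hab hcd
    have key : ∀ x y : S, ((e x : S') : S' ⧸ L.map e.toMonoidHom) = (e y : S') ↔ ((x : S) : S ⧸ L) = (y : S) := by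
      intro x y
      rw [QuotientGroup.eq, QuotientGroup.eq, ← map_inv, ← map_mul]
      exact Subgroup.mem_map_iff_mem e.injective
    obtain ⟨g, hg1, hg2⟩ := h1 (a := ((e a : S') : S' ⧸ L.map e.toMonoidHom)) (b := (e b : S')) (c := (e c : S'))
      (d := (e d : S')) (fun h => hab ((key a b).1 h)) (fun h => hcd ((key c d).1 h))
    obtain ⟨g, rfl⟩ := e.surjective g
    refine ⟨g, ?_, ?_⟩
    · change ((g * a : S) : S ⧸ L) = (c : S)
      rw [← key, map_mul]
      exact hg1
    · change ((g * b : S) : S ⧸ L) = (d : S)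
      rw [← key, map_mul]
      exact hg2
  prim := by
    obtain ⟨B, hAB, hin, hB⟩ := h.prim
    refine ⟨B.map (MulAut.congr e).toMonoidHom, Subgroup.map_mono hAB, fun s => ?_, fun M hLM hM => ?_⟩
    · obtain ⟨s, rfl⟩ := e.surjective s
      exact ⟨_, hin s, congr_conj e s⟩
    · obtain ⟨M, rfl⟩ : ∃ N : Subgroup S, N.map e.toMonoidHom = M :=
        ⟨M.comap e.toMonoidHom, Subgroup.map_comap_eq_self_of_surjective e.surjective M⟩
      have h1 := hB M ((Subgroup.map_le_map_iff_of_injective e.injective).1 hLM) fun b hb hbL => by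
        have h2 := hM _ ⟨b, hb, rfl⟩ (by
          change (L.map e.toMonoidHom).map (MulAut.congr e b).toMonoidHom = _
          rw [map_congr, hbL])
        change (M.map e.toMonoidHom).map (MulAut.congr e b).toMonoidHom = _ at h2
        rwa [map_congr, map_inj] at h2
      rcases h1 with rfl | rfl
      · exact Or.inl rfl
      · exact Or.inr (Subgroup.map_top_of_surjective _ e.surjective)
  nf := fun hf => h.nf (hf.congr (A.equivMapOfInjective (MulAut.congr e).toMonoidHom (MulAut.congr e).injective).symm)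

theorem Row.congr (e : S ≃* S') (h : Row S') : Row S := fun _ _ hr => h _ _ (hr.congr e)

end Transport

end Cfsg.Agent.H57.BG
end

private theorem dce_4c00b2d5cc9c : _root_.True := by
  try have : _root_.True := by simp only [_root_.Cfsg.Agent.H57.BG.tor.congr_simp]
  try have : _root_.True := by simp only [_root_.Cfsg.Agent.H57.BG.inner.eq_1]
  exact _root_.True.intro
end

-- part: H57/BG/CD
section
set_option linter.all false
open scoped Cfsg.Agent.FastGrp

/-!
# Abelian subgroups of `Aut T`, `T` simple, are small (S3561, helper57)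

Chermak-Delgado: `|B| ^ 2 ≤ |T| |Out T|` for an abelian subgroup `B` of `Aut T`, `T` a non-abelian simple group.
`Reg.index_sq_le` : hence `|T : L| ^ 2 ≤ |T| |Out T|` for `Reg A L`.
-/

set_option autoImplicit false

namespace Cfsg.Agent.H57.BG

open Subgroup Cfsg.Agent.H263.ChermakDelgado

universe u

/-- if all the nontrivial normal subgroups have trivial centralizer, the Chermak-Delgado measure is at most `|H|` -/
theorem measure_le_card {H : Type*} [Group H] [Finite H]
    (hH : ∀ M : Subgroup H, M.Normal → M ≠ ⊥ → centralizer (M : Set H) = ⊥) (X : Subgroup H) :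
    Nat.card X * Nat.card (centralizer (X : Set H)) ≤ Nat.card H := by
  classical
  -- a large subgroup of maximal order
  have hne : ∃ Q : Subgroup H, IsCentralizerLarge Q := exists_large H
  have hfin : Set.Finite {Q : Subgroup H | IsCentralizerLarge Q} := Set.toFinite _
  obtain ⟨Q, hQ⟩ := hfin.exists_maximal hne
  have hQl : IsCentralizerLarge Q := hQ.prop
  -- conjugates are large
  have hconj : ∀ g : H, IsCentralizerLarge (Q.map (MulAut.conj g).toMonoidHom) := by
    intro g
    rw [large_iff] at hQl ⊢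
    intro R
    refine (hQl R).trans (le_of_eq ?_)
    have h1 : centralizer ((Q.map (MulAut.conj g).toMonoidHom : Subgroup H) : Set H) =
        (centralizer (Q : Set H)).map (MulAut.conj g).toMonoidHom := by
      ext v
      rw [mem_centralizer_iff]
      constructor
      · intro hv
        refine ⟨g⁻¹ * v * g, ?_, by simp [mul_assoc]⟩
        rw [SetLike.mem_coe, mem_centralizer_iff]
        intro w hw
        have h2 := hv (g * w * g⁻¹) ⟨w, hw, rfl⟩
        calc w * (g⁻¹ * v * g) = g⁻¹ * ((g * w * g⁻¹) * v) * g := by group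
          _ = g⁻¹ * (v * (g * w * g⁻¹)) * g := by rw [h2]
          _ = _ := by group
      · rintro ⟨u, hu, rfl⟩ _ ⟨w, hw, rfl⟩
        rw [SetLike.mem_coe, mem_centralizer_iff] at hu
        have h2 := hu w hw
        change (g * w * g⁻¹) * (g * u * g⁻¹) = g * u * g⁻¹ * (g * w * g⁻¹)
        calc (g * w * g⁻¹) * (g * u * g⁻¹) = g * (w * u) * g⁻¹ := by group
          _ = g * (u * w) * g⁻¹ := by rw [h2]
          _ = _ := by group
    unfold Cfsg.Agent.H263.ChermakDelgado.measure
    rw [h1, Subgroup.card_map_of_injective (MulAut.conj g).injective,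
      Subgroup.card_map_of_injective (MulAut.conj g).injective]
  have hnorm : Q.Normal := by
    constructor
    intro n hn g
    have h1 : IsCentralizerLarge (Q ⊔ Q.map (MulAut.conj g).toMonoidHom) := (main hQl (hconj g)).2.1
    have h2 : Q ⊔ Q.map (MulAut.conj g).toMonoidHom ≤ Q := hQ.le_of_ge h1 le_sup_left
    exact h2 (mem_sup_right ⟨n, hn, rfl⟩)
  have h3 : Nat.card X * Nat.card (centralizer (X : Set H)) ≤ Cfsg.Agent.H263.ChermakDelgado.measure Q := (large_iff Q).1 hQl X
  refine h3.trans ?_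
  unfold Cfsg.Agent.H263.ChermakDelgado.measure
  by_cases hb : Q = ⊥
  · rw [hb, Subgroup.card_bot, one_mul]
    exact Subgroup.card_le_card_group _
  · rw [hH Q hnorm hb, Subgroup.card_bot, mul_one]
    exact Subgroup.card_le_card_group _

theorem centralizer_inn {T : Type*} [Group T] (hc : center T = ⊥) : centralizer (Inn T : Set (MulAut T)) = ⊥ := by
  rw [eq_bot_iff]
  intro a ha
  rw [mem_centralizer_iff] at ha
  rw [mem_bot]
  ext x
  rw [MulAut.one_apply]
  apply conj_injective hc
  have h1 := ha (MulAut.conj x) ⟨x, rfl⟩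
  have h2 : MulAut.conj (a x) = a * MulAut.conj x * a⁻¹ := by
    ext y
    simp [MulAut.conj_apply]
  rw [h2, ← h1, mul_inv_cancel_right]

/-- the nontrivial normal subgroups of `Aut T` contain the inner automorphisms -/
theorem centralizer_normal {T : Type*} [Group T] [Finite T] [IsSimpleGroup T] (hc : center T = ⊥)
    (M : Subgroup (MulAut T)) (hM : M.Normal) (hne : M ≠ ⊥) : centralizer (M : Set (MulAut T)) = ⊥ := by
  have h1 : (inner M).Normal := hM.comap _
  rcases h1.eq_bot_or_eq_top with h2 | h2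
  · exfalso
    apply hne
    rw [eq_bot_iff, ← centralizer_inn hc]
    intro m hm
    rw [mem_centralizer_iff]
    rintro _ ⟨t, rfl⟩
    -- the commutator is inner and in `M`
    have h3 : MulAut.conj t * m * (MulAut.conj t)⁻¹ * m⁻¹ ∈ M := M.mul_mem (hM.conj_mem m hm _) (M.inv_mem hm)
    have h4 : MulAut.conj t * m * (MulAut.conj t)⁻¹ * m⁻¹ = MulAut.conj (t * (m t)⁻¹) := by
      ext y
      simp [MulAut.conj_apply, mul_assoc]
    rw [h4] at h3
    have h5 : t * (m t)⁻¹ ∈ inner M := h3
    rw [h2, mem_bot, mul_inv_eq_one] at h5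
    have h6 : MulAut.conj (m t) = m * MulAut.conj t * m⁻¹ := by
      ext y
      simp [MulAut.conj_apply]
    rw [← h5] at h6
    calc MulAut.conj t * m = m * MulAut.conj t * m⁻¹ * m := by rw [← h6]
      _ = m * MulAut.conj t := by group
  · have h3 : Inn T ≤ M := by
      rintro _ ⟨t, rfl⟩
      have : t ∈ inner M := by rw [h2]; exact mem_top t
      exact this
    rw [eq_bot_iff, ← centralizer_inn hc]
    exact centralizer_le h3

/-- **abelian subgroups of `Aut T` are small** -/
theorem card_sq_le {T : Type*} [Group T] [Finite T] [IsSimpleGroup T] (hc : center T = ⊥)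
    (B : Subgroup (MulAut T)) (hB : ∀ a ∈ B, ∀ b ∈ B, a * b = b * a) :
    Nat.card B ^ 2 ≤ Nat.card T * (Inn T).index := by
  have h1 := measure_le_card (centralizer_normal hc) B
  have h2 : B ≤ centralizer (B : Set (MulAut T)) := by
    intro b hb
    rw [mem_centralizer_iff]
    intro a ha
    exact hB a ha b hb
  have h3 : Nat.card B ≤ Nat.card (centralizer (B : Set (MulAut T))) := Subgroup.card_le_of_le h2
  have h4 : Nat.card (Inn T) = Nat.card T :=
    (Nat.card_congr (MonoidHom.ofInjective (conj_injective hc)).toEquiv).symm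
  have h5 : Nat.card (MulAut T) = Nat.card T * (Inn T).index := by
    rw [← (Inn T).card_mul_index, h4]
  rw [← h5, pow_two]
  exact (Nat.mul_le_mul_left _ h3).trans h1

/-- **`|T : L| ^ 2 ≤ |T| |Out T|`** -/
theorem Reg.index_sq_le {T : Type u} [Group T] [Finite T] [IsSimpleGroup T] {A : Subgroup (MulAut T)} {L : Subgroup T}
    (h : Reg A L) (hc : center T = ⊥) : L.index ^ 2 ≤ Nat.card T * (Inn T).index := by
  rw [← h.card]
  exact card_sq_le hc A h.comm

end Cfsg.Agent.H57.BG
end

-- part: H57/BG/Gap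
section
set_option linter.all false

/-!
# `Reg A L` and cyclic primes (S3561, helper57)
-/

set_option autoImplicit false

namespace Cfsg.Agent.H57.BG

open Subgroup Cfsg.Agent.H899.CG

universe u

variable {T : Type u} [Group T] [Finite T] {A : Subgroup (MulAut T)} {L M : Subgroup T}

theorem Reg.not_dvd_of_cyc (h : Reg A L) (hc : center T = ⊥) {u : ℕ} (hu : Cyc T u) : ¬ u ∣ L.index := by
  intro hd
  rcases hu.2 with h1 | h1
  · obtain ⟨x, y, hx, hy, hxo, hyo, hyx⟩ := h.exists_pair hc hu.1.1 hd h1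
    exact hyx (hu.1.2.2 x y hxo hyo (h.inner_comm hc hx hy))
  · exact h.not_dvd_index_of_sq hu.1.1 h1 hd

/-- some cyclic prime of `T` divides `|T : M|` -/
def IGap (T : Type*) [Group T] (M : Subgroup T) : Prop := ∃ u, Cyc T u ∧ u ∣ M.index

/-- **no cyclic prime divides `|T : M|`, `L ≤ M`** -/
theorem Reg.not_iGap (h : Reg A L) (hc : center T = ⊥) (hLM : L ≤ M) : ¬ IGap T M := by
  rintro ⟨u, hu, hd⟩
  exact h.not_dvd_of_cyc hc hu (hd.trans (Subgroup.index_dvd_of_le hLM))

/-- **Row** from `IGap` for the coatoms -/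
theorem row_of_iGap (hc : center T = ⊥) (h : ∀ M : Subgroup T, IsCoatom M → IGap T M) : Row T := by
  intro A L hr
  obtain ⟨M, hM, hLM⟩ := (eq_top_or_exists_le_coatom L).resolve_left hr.proper
  exact hr.not_iGap hc hLM (h M hM)

theorem Reg.not_cGap_self (h : Reg A L) (hc : center T = ⊥) : ¬ CGap T L := by
  rintro ⟨u, hu, hd⟩
  exact hd (Reg.dvd_card_of_not_dvd hu.1.1 hu.1.2.1 (h.not_dvd_of_cyc hc hu))

theorem Reg.not_cGap (h : Reg A L) (hc : center T = ⊥) (hLM : L ≤ M) : ¬ CGap T M := fun hg =>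
  h.not_cGap_self hc (hg.mono hLM)

/-- **Row** from `CGapMax` -/
theorem row_of_cGapMax (hc : center T = ⊥) (h : CGapMax T) : Row T := by
  intro A L hr
  obtain ⟨M, hM, hLM⟩ := (eq_top_or_exists_le_coatom L).resolve_left hr.proper
  exact hr.not_cGap hc hLM (h M hM)

/-- there is a coatom `M ≥ L` without a gap -/
theorem Reg.exists_coatom (h : Reg A L) (hc : center T = ⊥) : ∃ M : Subgroup T, IsCoatom M ∧ L ≤ M ∧ ¬ CGap T M := by
  obtain ⟨M, hM, hLM⟩ := (eq_top_or_exists_le_coatom L).resolve_left h.proper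
  exact ⟨M, hM, hLM, h.not_cGap hc hLM⟩

omit [Finite T] in
theorem center_eq_bot [IsSimpleGroup T] (hna : ¬ ∀ a b : T, a * b = b * a) : center T = ⊥ := by
  rcases (inferInstance : (center T).Normal).eq_bot_or_eq_top with h | h
  · exact h
  · exact absurd (fun a b => by
      have := mem_center_iff.1 (h ▸ mem_top b : b ∈ center T) a
      exact this) hna

end Cfsg.Agent.H57.BG
end

-- part: H57/BG/Tor
section
set_option linter.all false
open scoped Cfsg.Agent.FastGrp

/-!
# Centralizers of `C_r × C_r` in linear groups of dimension at most `2 e + 1` (S3561, helper57)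

* `eq_one_of_comm` : `x`, `y` commuting operators of order `r` generating `C_r × C_r` on a space of dimension at most
  `2 e + 1` in characteristic `p`, `e ≥ 2` the least dimension of a fixed point free operator of order `r`: an operator
  `z` with `z ^ p = 1` commuting with `x` and `y` is `1`;
* `not_dvd_cent_of` : the same in `T`, `G → T` surjective with central kernel of order prime to `r p`;
* `Reg.false_of_pair` : `r ∣ |T : L|`, `r ∤ |Out T|`, `p ^ k ∣ |T : L|`, `p ^ k ∤ |Out T|` is then impossible.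
-/

set_option autoImplicit false

namespace Cfsg.Agent.H57.BG

open Module Cfsg.Agent.H951 Cfsg.Agent.H884.Cg

section Lin

variable {F : Type*} [Field F] {V : Type*} [AddCommGroup V] [Module F V] {x y z w : Module.End F V} {r p e : ℕ}

/-- an operator of order `p` has fixed vectors in characteristic `p` -/
theorem inf_fx_ne_bot [hp : Fact p.Prime] [CharP F p] (hz : z ^ p = 1) {W : Submodule F V} (hW : Inv z W) (h0 : W ≠ ⊥) :
    W ⊓ fx z ≠ ⊥ := by
  intro h
  apply h0
  rw [eq_bot_iff]
  intro v hv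
  rw [Submodule.mem_bot]
  have hsub : ∀ u ∈ W, (z - 1) u ∈ W := fun u hu => by
    rw [LinearMap.sub_apply, Module.End.one_apply]
    exact W.sub_mem (hW u hu) hu
  have hinj : ∀ u ∈ W, (z - 1) u = 0 → u = 0 := by
    intro u hu h1
    have h2 : u ∈ W ⊓ fx z := ⟨hu, LinearMap.mem_ker.2 h1⟩
    rwa [h, Submodule.mem_bot] at h2
  have hpow : ∀ k : ℕ, ((z - 1) ^ k) v = 0 → v = 0 := by
    intro k
    induction k with
    | zero => intro h1; simpa using h1
    | succ k ih =>
      intro h1
      apply ih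
      rw [pow_succ', Module.End.mul_apply] at h1
      refine hinj _ ?_ h1
      clear h1 ih
      induction k with
      | zero => simpa using hv
      | succ k ih =>
        rw [pow_succ', Module.End.mul_apply]
        exact hsub _ ih
  apply hpow p
  by_cases hnt : Subsingleton V
  · exact Subsingleton.elim _ _
  · haveI : Nontrivial V := not_subsingleton_iff_nontrivial.1 hnt
    have : CharP (Module.End F V) p := charP_of_injective_algebraMap (algebraMap F (Module.End F V)).injective p
    rw [sub_pow_char_of_commute (p := p) (Commute.one_right z), hz, one_pow, sub_self, LinearMap.zero_apply]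

/-- **Step 0** -/
theorem le_fx_of_small [FiniteDimensional F V] [Fact p.Prime] [CharP F p] (hz : z ^ p = 1) (hzw : Commute z w)
    (hU : ∀ U : Submodule F V, Inv w U → U ⊓ fx w = ⊥ → U ≠ ⊥ → e ≤ finrank F U) {W : Submodule F V}
    (hWw : Inv w W) (hWz : Inv z W) (hW0 : W ≠ ⊥) (hWf : W ⊓ fx w = ⊥) (hWe : finrank F W < 2 * e) : W ≤ fx z := by
  -- the fixed space
  set Y := W ⊓ fx z with hY
  have hYw : Inv w Y := hWw.inf (inv_fx_of_commute hzw.symm)
  have hYf : Y ⊓ fx w = ⊥ := by
    rw [eq_bot_iff, ← hWf]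
    exact inf_le_inf_right _ inf_le_left
  have hYe : e ≤ finrank F Y := hU Y hYw hYf (inf_fx_ne_bot hz hWz hW0)
  -- the image of `z - 1`
  set D := W.map (z - 1) with hD
  have hDW : D ≤ W := by
    rintro _ ⟨u, hu, rfl⟩
    rw [LinearMap.sub_apply, Module.End.one_apply]
    exact W.sub_mem (hWz u hu) hu
  have hDw : Inv w D := by
    rintro _ ⟨u, hu, rfl⟩
    refine ⟨w u, hWw u hu, ?_⟩
    rw [LinearMap.sub_apply, Module.End.one_apply, LinearMap.sub_apply, Module.End.one_apply, map_sub]
    have : z (w u) = w (z u) := LinearMap.congr_fun hzw.eq u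
    rw [this]
  have hDf : D ⊓ fx w = ⊥ := by
    rw [eq_bot_iff, ← hWf]
    exact inf_le_inf_right _ hDW
  have hrank : finrank F D + finrank F Y = finrank F W := by
    have h1 := ((z - 1).domRestrict W).finrank_range_add_finrank_ker
    have h2 : LinearMap.range ((z - 1).domRestrict W) = D := by
      rw [LinearMap.range_domRestrict]
    have h3 : finrank F (LinearMap.ker ((z - 1).domRestrict W)) = finrank F Y := by
      have h4 : LinearMap.ker ((z - 1).domRestrict W) = Y.comap W.subtype := by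
        ext u
        rw [LinearMap.mem_ker, LinearMap.domRestrict_apply, Submodule.mem_comap, hY]
        constructor
        · intro h
          exact ⟨u.2, LinearMap.mem_ker.2 h⟩
        · rintro ⟨-, h⟩
          exact LinearMap.mem_ker.1 h
      rw [h4]
      exact (Submodule.comapSubtypeEquivOfLe (inf_le_left : Y ≤ W)).finrank_eq
    rw [h2, h3] at h1
    exact h1
  have hD0 : D = ⊥ := by
    by_contra hne
    have := hU D hDw hDf hne
    omega
  intro u hu
  have h1 : (z - 1) u ∈ D := ⟨u, hu, rfl⟩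
  rw [hD0, Submodule.mem_bot] at h1
  exact LinearMap.mem_ker.2 h1

theorem eq_one_of_comm [FiniteDimensional F V] [Fact p.Prime] [CharP F p] (hr : r.Prime) (h0 : (r : F) ≠ 0)
    (hx : x ^ r = 1) (hy : y ^ r = 1) (hxy : Commute x y) (he : 2 ≤ e) (hV : finrank F V ≤ 2 * e + 1)
    (hU : ∀ i j : ℕ, ∀ U : Submodule F V, Inv (x ^ i * y ^ j) U → U ⊓ fx (x ^ i * y ^ j) = ⊥ → U ≠ ⊥ →
      e ≤ finrank F U)
    (hy1 : y ≠ 1) (hxy1 : ∀ i : ℕ, x * y ^ i ≠ 1) (hz : z ^ p = 1) (hzx : Commute z x) (hzy : Commute z y) :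
    z = 1 := by
  have hcy : cm y ≠ ⊥ := by
    intro h
    apply hy1
    exact sub_eq_zero.1 (LinearMap.range_eq_bot.1 h)
  have hcfy : cm y ⊓ fx y = ⊥ := by
    rw [inf_comm]; exact (isCompl_fx_cm h0 hy).inf_eq_bot
  obtain ⟨i, -, hi⟩ := exists_fixed hr h0 hx hy hxy (inv_cm_of_commute hxy) inv_cm hcy hcfy
  set w := x * y ^ i with hw
  have hcxi : Commute x (y ^ i) := hxy.pow_right i
  have hw1 : w ≠ 1 := hxy1 i
  have hwr : w ^ r = 1 := by
    rw [hw, hcxi.mul_pow, hx, ← pow_mul, mul_comm i r, pow_mul, hy, one_pow, one_mul]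
  have hwy : Commute w y := hxy.mul_left (Commute.refl y |>.pow_left i)
  have hzw : Commute z w := hzx.mul_right (hzy.pow_right i)
  have hUy : ∀ U : Submodule F V, Inv y U → U ⊓ fx y = ⊥ → U ≠ ⊥ → e ≤ finrank F U := by
    have h1 := hU 0 1
    rw [pow_zero, pow_one, one_mul] at h1
    exact h1
  have hUw : ∀ U : Submodule F V, Inv w U → U ⊓ fx w = ⊥ → U ≠ ⊥ → e ≤ finrank F U := by
    have h1 := hU 1 i
    rw [pow_one] at h1
    exact h1
  -- the three parts
  set U := cm y ⊓ fx w with hUdef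
  have hUyi : Inv y U := inv_cm.inf (inv_fx_of_commute hwy.symm)
  have hUzi : Inv z U := (inv_cm_of_commute hzy).inf (inv_fx_of_commute hzw)
  have hUf : U ⊓ fx y = ⊥ := by
    rw [eq_bot_iff, ← hcfy]
    exact inf_le_inf_right _ inf_le_left
  have hUe : e ≤ finrank F U := hUy U hUyi hUf hi
  have hcw : cm w ≠ ⊥ := by
    intro h
    apply hw1
    exact sub_eq_zero.1 (LinearMap.range_eq_bot.1 h)
  have hcfw : cm w ⊓ fx w = ⊥ := by
    rw [inf_comm]; exact (isCompl_fx_cm h0 hwr).inf_eq_bot
  have hcwe : e ≤ finrank F (cm w) := hUw _ inv_cm hcfw hcw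
  have hdim : finrank F (cm w) + finrank F (fx w) = finrank F V := by
    have h1 := Submodule.finrank_add_eq_of_isCompl (isCompl_fx_cm h0 hwr)
    omega
  set C := fx w ⊓ fx y with hC
  have hfw : finrank F U + finrank F C = finrank F (fx w) := by
    have h1 : U ⊓ C = ⊥ := by
      rw [eq_bot_iff, ← hcfy]
      rintro v ⟨⟨hv1, -⟩, -, hv2⟩
      exact ⟨hv1, hv2⟩
    have h2 := finrank_sup_of_disj h1
    have h3 : U ⊔ C = fx w := by
      apply le_antisymm (sup_le inf_le_right inf_le_left)
      intro v hv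
      have h4 : v ∈ fx y ⊔ cm y := by rw [(isCompl_fx_cm h0 hy).sup_eq_top]; trivial
      obtain ⟨a, ha, b, hb, rfl⟩ := Submodule.mem_sup.1 h4
      have h5 : w a ∈ fx y := inv_fx_of_commute hwy a ha
      have h6 : w b ∈ cm y := inv_cm_of_commute hwy b hb
      have h7 : w a + w b = a + b := by
        rw [← map_add]
        exact mem_fx.1 hv
      have h8 : w a - a = b - w b := by
        rw [sub_eq_sub_iff_add_eq_add, h7]
        abel
      have h9 : w a - a ∈ cm y ⊓ fx y := ⟨by rw [h8]; exact (cm y).sub_mem hb h6, (fx y).sub_mem h5 ha⟩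
      rw [hcfy, Submodule.mem_bot] at h9
      have h10 : b - w b = 0 := by rw [← h8, h9]
      rw [add_comm]
      refine Submodule.add_mem_sup ⟨hb, mem_fx.2 (sub_eq_zero.1 h10).symm⟩ ⟨mem_fx.2 (sub_eq_zero.1 h9), ha⟩
    rw [h3] at h2
    omega
  have hz1 : cm w ≤ fx z := le_fx_of_small hz hzw hUw inv_cm (inv_cm_of_commute hzw) hcw hcfw (by omega)
  have hz2 : U ≤ fx z := le_fx_of_small hz hzy hUy hUyi hUzi hi hUf (by omega)
  have hz3 : C ≤ fx z := by
    by_cases hC0 : C = ⊥
    · rw [hC0]; exact bot_le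
    · have h1 : Inv z C := (inv_fx_of_commute hzw).inf (inv_fx_of_commute hzy)
      have h2 := inf_fx_ne_bot hz h1 hC0
      have h3 : 0 < finrank F ↥(C ⊓ fx z) := by
        rw [Module.finrank_pos_iff]
        exact Submodule.nontrivial_iff_ne_bot.2 h2
      have h4 : C ⊓ fx z = C := Submodule.eq_of_le_of_finrank_le inf_le_left (by omega)
      rw [← h4]
      exact inf_le_right
  have hz4 : fx z = ⊤ := by
    rw [eq_top_iff]
    intro v _
    have h1 : v ∈ fx w ⊔ cm w := by rw [(isCompl_fx_cm h0 hwr).sup_eq_top]; trivial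
    obtain ⟨a, ha, b, hb, rfl⟩ := Submodule.mem_sup.1 h1
    refine (fx z).add_mem ?_ (hz1 hb)
    have h4 : a ∈ fx y ⊔ cm y := by rw [(isCompl_fx_cm h0 hy).sup_eq_top]; trivial
    obtain ⟨c, hc, d, hd, rfl⟩ := Submodule.mem_sup.1 h4
    have h5 : w c ∈ fx y := inv_fx_of_commute hwy c hc
    have h6 : w d ∈ cm y := inv_cm_of_commute hwy d hd
    have h7 : w c + w d = c + d := by
      rw [← map_add]
      exact mem_fx.1 ha
    have h8 : w c - c = d - w d := by
      rw [sub_eq_sub_iff_add_eq_add, h7]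
      abel
    have h9 : w c - c ∈ cm y ⊓ fx y := ⟨by rw [h8]; exact (cm y).sub_mem hd h6, (fx y).sub_mem h5 hc⟩
    rw [hcfy, Submodule.mem_bot] at h9
    have h10 : d - w d = 0 := by rw [← h8, h9]
    exact (fx z).add_mem (hz3 ⟨mem_fx.2 (sub_eq_zero.1 h9), hc⟩)
      (hz2 ⟨hd, mem_fx.2 (sub_eq_zero.1 h10).symm⟩)
  ext v
  have h1 : v ∈ fx z := by rw [hz4]; trivial
  rw [mem_fx.1 h1, Module.End.one_apply]

end Lin

section Grp

open Subgroup

variable {T G : Type*} [Group T] [Group G] [Finite G]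

omit [Finite G] in
/-- elements of coprime orders whose images commute -/
theorem comm_of_lift {a b : ℕ} (π : G →* T) (hK : π.ker ≤ Subgroup.center G) {g h : G} (hg : g ^ a = 1)
    (hh : h ^ b = 1) (hab : ∀ k : G, k ∈ π.ker → k ^ a = 1 → k ^ b = 1 → k = 1) (hc : π g * π h = π h * π g) :
    g * h = h * g := by
  have h3 : g * h * g⁻¹ * h⁻¹ ∈ π.ker := by
    rw [MonoidHom.mem_ker, map_mul, map_mul, map_mul, map_inv, map_inv, hc]
    group
  have hcen := Subgroup.mem_center_iff.1 (hK h3)
  set c := g * h * g⁻¹ * h⁻¹ with hcdef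
  have h4 : g * h * g⁻¹ = c * h := by rw [hcdef]; group
  have h5 : (g * h * g⁻¹) ^ b = 1 := by rw [conj_pow, hh, mul_one, mul_inv_cancel]
  have h6 : c ^ b = 1 := by
    have hc' : Commute c h := (hcen h).symm
    rw [h4, hc'.mul_pow, hh, mul_one] at h5
    exact h5
  have h7 : h * g * h⁻¹ = c⁻¹ * g := by
    rw [hcdef]; group
  have h8 : (h * g * h⁻¹) ^ a = 1 := by rw [conj_pow, hg, mul_one, mul_inv_cancel]
  have h9 : c ^ a = 1 := by
    have hc' : Commute c⁻¹ g := (show Commute c g from (hcen g).symm).inv_left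
    rw [h7, hc'.mul_pow, hg, mul_one, inv_pow, inv_eq_one] at h8
    exact h8
  have h10 := hab c h3 h9 h6
  rw [hcdef, mul_inv_eq_one, mul_inv_eq_iff_eq_mul] at h10
  exact h10

/-- **the centralizer of `C_r × C_r` has order prime to `p`** -/
theorem not_dvd_cent_of {F : Type*} [Field F] {V : Type*} [AddCommGroup V] [Module F V] [FiniteDimensional F V]
    {r p e : ℕ} [hp : Fact p.Prime] [CharP F p]
    (π : G →* T) (hπ : Function.Surjective π) (hK : π.ker ≤ Subgroup.center G) (hr : r.Prime)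
    (h0 : (r : F) ≠ 0) (hrK : ¬ r ∣ Nat.card π.ker) (hpK : ¬ p ∣ Nat.card π.ker)
    (ρ : G →* Module.End F V) (hρ : Function.Injective ρ) (he : 2 ≤ e) (hV : finrank F V ≤ 2 * e + 1)
    (hU : ∀ g : G, g ^ r = 1 → ∀ U : Submodule F V, Inv (ρ g) U → U ⊓ fx (ρ g) = ⊥ → U ≠ ⊥ → e ≤ finrank F U)
    {x y : T} (hx : orderOf x = r) (hy : orderOf y = r) (hxy : x * y = y * x) (hn : y ∉ zpowers x) :
    ¬ p ∣ Nat.card (centralizer ({x, y} : Set T)) := by
  intro hd
  have hfT : Finite T := Finite.of_surjective π hπ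
  obtain ⟨z, hz⟩ := exists_prime_orderOf_dvd_card' (G := centralizer ({x, y} : Set T)) p hd
  have hzo : orderOf (z : T) = p := by rw [Subgroup.orderOf_coe]; exact hz
  have hzc := mem_centralizer_iff.1 z.2
  have hzx : (z : T) * x = x * z := (hzc x (by simp)).symm
  have hzy : (z : T) * y = y * z := (hzc y (by simp)).symm
  have hxr : x ^ r = 1 := hx ▸ pow_orderOf_eq_one x
  have hyr : y ^ r = 1 := hy ▸ pow_orderOf_eq_one y
  have hzp : (z : T) ^ p = 1 := hzo ▸ pow_orderOf_eq_one (z : T)
  have hrp : r ≠ p := by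
    rintro rfl
    exact h0 (CharP.cast_eq_zero F r)
  obtain ⟨a, rfl, har⟩ := H884.Cg.exists_lift π hπ hr hrK hxr
  obtain ⟨b, rfl, hbr⟩ := H884.Cg.exists_lift π hπ hr hrK hyr
  obtain ⟨c, hcz, hcp⟩ := H884.Cg.exists_lift π hπ hp.1 hpK hzp
  have hrr : ∀ k : G, k ∈ π.ker → k ^ r = 1 → k = 1 := by
    intro k hk hkr
    have h7 : (⟨k, hk⟩ : π.ker) = 1 := by
      have h8 : orderOf (⟨k, hk⟩ : π.ker) ∣ r := orderOf_dvd_of_pow_eq_one (Subtype.ext hkr)
      have h9 : orderOf (⟨k, hk⟩ : π.ker) ∣ Nat.card π.ker := orderOf_dvd_natCard _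
      rcases (Nat.dvd_prime hr).1 h8 with h10 | h10
      · exact orderOf_eq_one_iff.1 h10
      · exact absurd (h10 ▸ h9) hrK
    exact congrArg Subtype.val h7
  have hab : a * b = b * a := comm_of_lift π hK har hbr (fun k hk h1 _ => hrr k hk h1) hxy
  have hca : c * a = a * c := comm_of_lift π hK hcp har (fun k hk _ h1 => hrr k hk h1) (by rw [hcz]; exact hzx)
  have hcb : c * b = b * c := comm_of_lift π hK hcp hbr (fun k hk _ h1 => hrr k hk h1) (by rw [hcz]; exact hzy)
  have hρ1 : ∀ g : G, ρ g = 1 → g = 1 := fun g h => hρ (by rw [h, map_one])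
  have hb1 : b ≠ 1 := by
    rintro rfl
    rw [map_one, orderOf_one] at hy
    exact hr.one_lt.ne hy
  have key : ∀ i : ℕ, a * b ^ i ≠ 1 := by
    intro i h3
    apply hn
    have h4 : π a = (π b ^ i)⁻¹ := by
      rw [eq_inv_iff_mul_eq_one, ← map_pow, ← map_mul, h3, map_one]
    have h5 : Subgroup.zpowers (π a) ≤ Subgroup.zpowers (π b) := by
      rw [Subgroup.zpowers_le, h4]
      exact inv_mem (Subgroup.npow_mem_zpowers _ _)
    have h6 : Subgroup.zpowers (π a) = Subgroup.zpowers (π b) :=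
      Subgroup.eq_of_le_of_card_ge h5 (by rw [Nat.card_zpowers, Nat.card_zpowers, hx, hy])
    rw [h6]
    exact Subgroup.mem_zpowers _
  have hc1 : ρ c = 1 := by
    refine eq_one_of_comm (x := ρ a) (y := ρ b) (z := ρ c) (r := r) (p := p) (e := e) hr h0
      (by rw [← map_pow, har, map_one]) (by rw [← map_pow, hbr, map_one])
      (show ρ a * ρ b = ρ b * ρ a by rw [← map_mul, ← map_mul, hab]) he hV ?_ ?_ ?_
      (by rw [← map_pow, hcp, map_one]) (show ρ c * ρ a = ρ a * ρ c by rw [← map_mul, ← map_mul, hca])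
      (show ρ c * ρ b = ρ b * ρ c by rw [← map_mul, ← map_mul, hcb])
    · intro i j
      rw [← map_pow, ← map_pow, ← map_mul]
      apply hU
      have hc : Commute (a ^ i) (b ^ j) := (show Commute a b from hab).pow_pow i j
      rw [hc.mul_pow, ← pow_mul, ← pow_mul, mul_comm i, mul_comm j, pow_mul, pow_mul, har, hbr, one_pow, one_pow,
        one_mul]
    · intro h
      exact hb1 (hρ1 b h)
    · intro i h
      rw [← map_pow, ← map_mul] at h
      exact key i (hρ1 _ h)
  have hc2 : c = 1 := hρ1 c hc1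
  rw [hc2, map_one] at hcz
  rw [← hcz, orderOf_one] at hzo
  exact hp.1.one_lt.ne hzo

/-- **the kill** -/
theorem Reg.false_of_pair {T : Type*} [Group T] [Finite T] {A : Subgroup (MulAut T)} {L : Subgroup T} (h : Reg A L)
    (hc : center T = ⊥) {r p k : ℕ} (hr : r.Prime) (hp : p.Prime) (hrn : r ∣ L.index)
    (hrout : ¬ r ∣ (Inn T).index) (hpn : p ^ k ∣ L.index) (hpout : ¬ p ^ k ∣ (Inn T).index)
    (hcent : ∀ x y : T, orderOf x = r → orderOf y = r → x * y = y * x → y ∉ zpowers x →
      ¬ p ∣ Nat.card (centralizer ({x, y} : Set T))) : False := by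
  obtain ⟨x, y, hx, hy, hxo, hyo, hyx⟩ := h.exists_pair hc hr hrn hrout
  obtain ⟨z, hz, hzo⟩ := h.exists_inner hc hp hpn hpout
  apply hcent x y hxo hyo (h.inner_comm hc hx hy) hyx
  have h1 : z ∈ centralizer ({x, y} : Set T) := by
    rw [mem_centralizer_iff]
    intro w hw
    rcases hw with rfl | hw
    · exact h.inner_comm hc hx hz
    · rw [Set.mem_singleton_iff] at hw
      subst hw
      exact h.inner_comm hc hy hz
  rw [← hzo]
  exact Subgroup.orderOf_dvd_natCard _ h1

end Grp

end Cfsg.Agent.H57.BG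
end

-- part: H57/BG/Dead
section
set_option linter.all false

/-!
# Dead subgroups (S3561, helper57)

`Dead T M` : no regular pair `(A, L)` with `L ≤ M`.
-/

set_option autoImplicit false

namespace Cfsg.Agent.H57.BG

open Subgroup Cfsg.Agent.H899.CG

universe u v

variable {T : Type u} [Group T] {M N : Subgroup T}

/-- no regular pair `(A, L)` with `L ≤ M` -/
def Dead (T : Type u) [Group T] (M : Subgroup T) : Prop :=
  ∀ (A : Subgroup (MulAut T)) (L : Subgroup T), Reg A L → ¬ L ≤ M

theorem Dead.mono (h : Dead T M) (hN : N ≤ M) : Dead T N := fun A L hr hL => h A L hr (hL.trans hN)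

variable [Finite T]

theorem dead_of_iGap (hc : center T = ⊥) (h : IGap T M) : Dead T M := fun _ _ hr hLM => hr.not_iGap hc hLM h

/-- **Row** from the coatoms -/
theorem row_of_dead (h : ∀ M : Subgroup T, IsCoatom M → Dead T M) : Row T := by
  intro A L hr
  obtain ⟨M, hM, hLM⟩ := (eq_top_or_exists_le_coatom L).resolve_left hr.proper
  exact h M hM A L hr hLM

omit [Finite T] in
theorem row_of_proper (h : ∀ M : Subgroup T, M ≠ ⊤ → Dead T M) : Row T := fun A L hr =>
  h L hr.proper A L hr le_rfl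

/-- the order bound -/
theorem dead_of_index [IsSimpleGroup T] (hc : center T = ⊥) (h : Nat.card T * (Inn T).index < M.index ^ 2) : Dead T M := by
  intro A L hr hLM
  have h1 := hr.index_sq_le hc
  have h2 : M.index ≤ L.index := Nat.le_of_dvd (Nat.pos_of_ne_zero (index_ne_zero_of_finite))
    (index_dvd_of_le hLM)
  have h3 : M.index ^ 2 ≤ L.index ^ 2 := Nat.pow_le_pow_left h2 2
  omega

/-- **the pair `r`, `p`** -/
theorem dead_of_pair (hc : center T = ⊥) {r p k : ℕ} (hr : r.Prime) (hp : p.Prime) (hrn : r ∣ M.index)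
    (hrout : ¬ r ∣ (Inn T).index) (hpn : p ^ k ∣ M.index) (hpout : ¬ p ^ k ∣ (Inn T).index)
    (hcent : ∀ x y : T, orderOf x = r → orderOf y = r → x * y = y * x → y ∉ zpowers x →
      ¬ p ∣ Nat.card (centralizer ({x, y} : Set T))) : Dead T M := by
  intro A L hr' hLM
  exact hr'.false_of_pair hc hr hp (hrn.trans (index_dvd_of_le hLM)) hrout (hpn.trans (index_dvd_of_le hLM)) hpout hcent

end Cfsg.Agent.H57.BG
end
end
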