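import Cfsg.Agent.H57.BG.Dead
import Cfsg.Agent.H951.Block
import Cfsg.Agent.H951.Sub
import Cfsg.Agent.S0814
import Cfsg.Agent.S0816
import Cfsg.Agent.S0817
import Cfsg.Agent.S0246
import Cfsg.Agent.S0295
import Cfsg.Agent.S0296
import Cfsg.Agent.H922.OddFull
import Cfsg.Agent.H957.SpIndex
import Cfsg.Agent.H947.Cyc.Basic_m3
import Cfsg.Agent.H884.ElO8
import Cfsg.Agent.H951.Form
import Cfsg.Agent.H355.Fixity
import Cfsg.Agent.H262.ElFourA
import Cfsg.Agent.H133.SLPower
import Cfsg.Agent.Prune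
set_option linter.all false
prune_inst 0x7f00000000000000000000000000000000000000000000000000000000000000000000000000000000000000000000000000000000000000000000000000000000000000000000000000000000000000003fffffffffffffffffffffffffffaeffbdffffffff
open scoped Cfsg.Agent.FastGrp

-- part: H57/BG/Tor2
section
/-!
# Centralizers of `C_r × C_r` in isometry groups, `ord_r(q)` odd (S3561, helper57)

* `NoIrr B w` : no irreducible subspace of `[V, w]` is nondegenerate;
* `le_fx_of_form` : then an isometry of order `p` commuting with `w` is trivial on the nondegenerate subspaces of `[V, w]`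
  of dimension less than `4 e`;
* `not_dvd_cent_form` : `V` of dimension at most `4 e + 1`: the centralizer of `C_r × C_r` has order prime to `p`.
-/

set_option autoImplicit false

namespace Cfsg.Agent.H57.BG

open Module Polynomial Cfsg.Agent.H951 Cfsg.Agent.H884.Cg

section Form

variable {F : Type*} [Field F] [Fintype F] {V : Type*} [AddCommGroup V] [Module F V] [FiniteDimensional F V]
  {σ : F →+* F} {ε : F} {B : V → V → F} {w z : Module.End F V} {r p : ℕ} {W : Submodule F V}

/-- no irreducible subspace of `[V, w]` is nondegenerate -/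
def NoIrr (B : V → V → F) (w : Module.End F V) : Prop := ∀ S : Submodule F V, Irr w S → S ≤ cm w → ¬ Nd B S

omit [Fintype F] [FiniteDimensional F V] in
theorem inj_of_pow (hr : r.Prime) (hw : w ^ r = 1) : Function.Injective w := by
  obtain ⟨s, rfl⟩ : ∃ s, r = s + 1 := ⟨r - 1, by have := hr.pos; omega⟩
  intro u v huv
  have h : ∀ a : V, (w ^ s) (w a) = a := by
    intro a
    rw [← Module.End.mul_apply, ← pow_succ, hw]
    rfl
  rw [← h u, ← h v, huv]

theorem two_mul_le (hB : Frm σ ε B) (hw : Isom B w) [hr : Fact r.Prime] (h0 : (r : F) ≠ 0) (hwr : w ^ r = 1)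
    (hno : NoIrr B w) (hWi : _root_.Cfsg.Agent.H951.Inv w W) (hWn : Nd B W) (hWc : W ≤ cm w) (hW0 : W ≠ ⊥) :
    2 * orderOf (Fintype.card F : ZMod r) ≤ finrank F W := by
  obtain ⟨S, hSW, hS⟩ := exists_irr hWi hW0
  have h1 := hS.finrank_eq h0 hwr (hSW.trans hWc)
  rcases hS.nd_or_ti hB hw (inj_of_pow hr.1 hwr) with h2 | h2
  · exact absurd h2 (hno S hS (hSW.trans hWc))
  · rw [← h1]
    exact hB.two_mul_finrank_le hWn hSW h2

theorem eq_two_mul (hB : Frm σ ε B) (hw : Isom B w) [hr : Fact r.Prime] (h0 : (r : F) ≠ 0) (hwr : w ^ r = 1)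
    (hno : NoIrr B w) (hWi : _root_.Cfsg.Agent.H951.Inv w W) (hWn : Nd B W) (hWc : W ≤ cm w) (hW0 : W ≠ ⊥)
    (hlt : finrank F W < 4 * orderOf (Fintype.card F : ZMod r)) :
    finrank F W = 2 * orderOf (Fintype.card F : ZMod r) := by
  rcases exists_block hB hw (inj_of_pow hr.1 hwr) (semisimple_of_pow h0 hwr) hWi hWn hW0 with
    ⟨U, hUW, hU, hUn⟩ | ⟨U, U', hU, hU', hiU, hiU', -, -, hd, -, hn⟩
  · exact absurd hUn (hno U hU (hUW.trans hWc))
  · have h1 := hiU.finrank_eq h0 hwr (hU.trans hWc)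
    have h2 := hiU'.finrank_eq h0 hwr (hU'.trans hWc)
    have h3 := finrank_sup_of_disj hd
    have hle : U ⊔ U' ≤ W := sup_le hU hU'
    have h4 := hB.finrank_perp_inf hn hle
    by_cases hb : hB.perp (U ⊔ U') ⊓ W = ⊥
    · rw [hb, finrank_bot] at h4
      omega
    · have h5 := two_mul_le hB hw h0 hwr hno
        ((hw.inv_perp hB (inj_of_pow hr.1 hwr) (hiU.2.1.sup hiU'.2.1)).inf hWi) (hB.nd_perp_inf hWn hn hle)
        (inf_le_right.trans hWc) hb
      omega

omit [Fintype F] in
theorem finrank_map_add (z : Module.End F V) (W : Submodule F V) :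
    finrank F (W.map (z - 1)) + finrank F ↥(W ⊓ fx z) = finrank F W := by
  have h1 := ((z - 1).domRestrict W).finrank_range_add_finrank_ker
  have h2 : LinearMap.range ((z - 1).domRestrict W) = W.map (z - 1) := by
    rw [LinearMap.range_domRestrict]
  have h3 : finrank F (LinearMap.ker ((z - 1).domRestrict W)) = finrank F ↥(W ⊓ fx z) := by
    have h4 : LinearMap.ker ((z - 1).domRestrict W) = (W ⊓ fx z).comap W.subtype := by
      ext u
      rw [LinearMap.mem_ker, LinearMap.domRestrict_apply, Submodule.mem_comap]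
      constructor
      · intro h
        exact ⟨u.2, LinearMap.mem_ker.2 h⟩
      · rintro ⟨-, h⟩
        exact LinearMap.mem_ker.1 h
    rw [h4]
    exact (Submodule.comapSubtypeEquivOfLe (inf_le_left : W ⊓ fx z ≤ W)).finrank_eq
  rw [h2, h3] at h1
  exact h1

omit [Fintype F] [FiniteDimensional F V] in
theorem comm_aeval (hzw : Commute z w) (f : F[X]) : Commute z (aeval w f) := by
  induction f using Polynomial.induction_on' with
  | add f g hf hg => rw [map_add]; exact hf.add_right hg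
  | monomial n a =>
    rw [aeval_monomial]
    exact Commute.mul_right (Algebra.commutes a z).symm (hzw.pow_right n)

theorem le_fx_of_form (hB : Frm σ ε B) (hw : Isom B w) [hr : Fact r.Prime] (h0 : (r : F) ≠ 0) (hr2 : r ≠ 2)
    (hwr : w ^ r = 1) (hno : NoIrr B w) (hWi : _root_.Cfsg.Agent.H951.Inv w W) (hWn : Nd B W) (hWc : W ≤ cm w) (hW0 : W ≠ ⊥)
    (hlt : finrank F W < 4 * orderOf (Fintype.card F : ZMod r)) [Fact p.Prime] [CharP F p] (hz : z ^ p = 1)
    (hzw : Commute z w) (hWz : _root_.Cfsg.Agent.H951.Inv z W) : W ≤ fx z := by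
  have hinj := inj_of_pow hr.1 hwr
  have hd := eq_two_mul hB hw h0 hwr hno hWi hWn hWc hW0 hlt
  have hepos := ord_pos (F := F) h0
  set e := orderOf (Fintype.card F : ZMod r) with he
  set! D := W.map (z - 1) with hD
  have hDW : D ≤ W := by
    rintro _ ⟨u, hu, rfl⟩
    rw [LinearMap.sub_apply, Module.End.one_apply]
    exact W.sub_mem (hWz u hu) hu
  have hDw : _root_.Cfsg.Agent.H951.Inv w D := by
    rintro _ ⟨u, hu, rfl⟩
    refine ⟨w u, hWi u hu, ?_⟩
    rw [LinearMap.sub_apply, Module.End.one_apply, LinearMap.sub_apply, Module.End.one_apply, map_sub]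
    have : z (w u) = w (z u) := LinearMap.congr_fun hzw.eq u
    rw [this]
  have hDz : _root_.Cfsg.Agent.H951.Inv z D := by
    rintro _ ⟨u, hu, rfl⟩
    refine ⟨z u, hWz u hu, ?_⟩
    rw [LinearMap.sub_apply, Module.End.one_apply, LinearMap.sub_apply, Module.End.one_apply, map_sub]
  have hrank := finrank_map_add z W
  by_cases hD0 : D = ⊥
  · intro u hu
    have h1 : (z - 1) u ∈ D := ⟨u, hu, rfl⟩
    rw [hD0, Submodule.mem_bot] at h1
    exact LinearMap.mem_ker.2 h1
  exfalso
  have hE0 : D ⊓ fx z ≠ ⊥ := inf_fx_ne_bot hz hDz hD0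
  have hEw : _root_.Cfsg.Agent.H951.Inv w (D ⊓ fx z) := hDw.inf (inv_fx_of_commute hzw.symm)
  obtain ⟨U, hUE, hU⟩ := exists_irr hEw hE0
  have hUD : U ≤ D := hUE.trans inf_le_left
  have hUY : U ≤ W ⊓ fx z := le_inf (hUD.trans hDW) (hUE.trans inf_le_right)
  have hUe := hU.finrank_eq h0 hwr ((hUD.trans hDW).trans hWc)
  rw [← he] at hUe
  have h1 : finrank F U ≤ finrank F D := Submodule.finrank_mono hUD
  have h2 : finrank F U ≤ finrank F ↥(W ⊓ fx z) := Submodule.finrank_mono hUY
  rw [← hD] at hrank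
  have hUD' : U = D := Submodule.eq_of_le_of_finrank_le hUD (by omega)
  have hUY' : U = W ⊓ fx z := Submodule.eq_of_le_of_finrank_le hUY (by omega)
  have hUW : U ≤ W := hUD.trans hDW
  have hti : TI B U := (hU.nd_or_ti hB hw hinj).resolve_left (hno U hU (hUW.trans hWc))
  obtain ⟨U', hU'i, hU'W, hdis, hsup⟩ := exists_rel_compl (semisimple_of_pow h0 hwr) hU.2.1 hWi hUW
  have hU'e : finrank F U' = e := by
    have h3 := finrank_sup_of_disj hdis
    rw [hsup] at h3
    omega
  have hU'0 : U' ≠ ⊥ := by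
    rintro rfl
    rw [finrank_bot] at hU'e
    omega
  have hU'irr : Irr w U' := by
    obtain ⟨I, hI, hIr⟩ := exists_irr hU'i hU'0
    have h3 := hIr.finrank_eq h0 hwr ((hI.trans hU'W).trans hWc)
    rw [← he] at h3
    have h4 : I = U' := Submodule.eq_of_le_of_finrank_le hI (by omega)
    rw [← h4]
    exact hIr
  have hti' : TI B U' := (hU'irr.nd_or_ti hB hw hinj).resolve_left (hno U' hU'irr (hU'W.trans hWc))
  have hp : U' ⊓ hB.perp U = ⊥ := by
    rw [eq_bot_iff]
    intro v hv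
    rw [Submodule.mem_bot]
    by_contra hv0
    obtain ⟨t, ht, hvt⟩ := hWn v (hU'W hv.1) hv0
    rw [← hsup] at ht
    obtain ⟨a, ha, b, hb, rfl⟩ := Submodule.mem_sup.1 ht
    apply hvt
    rw [hB.add_right, hv.2 a ha, hti' v hv.1 b hb, add_zero]
  obtain ⟨f, hf, -, hfU⟩ := hU.exists_factor (cyclotomic r F) (cyclotomic_ne_zero r F)
    fun v hv => cyclotomic_apply_of_mem_cm hwr ((hUW.trans hWc) hv)
  have hfU' : ∀ u ∈ U', aeval w f u = 0 := by
    intro u hu
    have h3 : (z - 1) u ∈ U := by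
      rw [hUD']
      exact ⟨u, hU'W hu, rfl⟩
    have h4 : (z - 1) (aeval w f u) = 0 := by
      have h5 : (z - 1) (aeval w f u) = aeval w f ((z - 1) u) := by
        rw [LinearMap.sub_apply, LinearMap.sub_apply, map_sub]
        congr 1
        exact LinearMap.congr_fun (comm_aeval hzw f).eq u
      rw [h5, hfU _ h3]
    have h5 : aeval w f u ∈ U' := hU'i.aeval f u hu
    have h6 : aeval w f u ∈ U := by
      rw [hUY']
      exact ⟨hU'W h5, LinearMap.mem_ker.2 h4⟩
    rw [← Submodule.mem_bot F, ← hdis]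
    exact ⟨h6, h5⟩
  have h2' : ∃ u ∈ U', w (w u) ≠ u := by
    by_contra hcon
    push Not at hcon
    obtain ⟨v, hv, hv0⟩ := (Submodule.ne_bot_iff _).1 hU'0
    obtain ⟨k, hk⟩ := hr.1.odd_of_ne_two hr2
    have h3 : ∀ j : ℕ, ∀ a ∈ U', (w ^ (2 * j)) a = a := by
      intro j
      induction j with
      | zero => intro a _; simp
      | succ j ih =>
        intro a ha
        rw [mul_add, mul_one, pow_add, Module.End.mul_apply, pow_two, Module.End.mul_apply, hcon a ha, ih a ha]
    have h4 : w v = v := by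
      have h5 : (w ^ r) v = v := by rw [hwr]; rfl
      rw [hk, pow_add, pow_one, Module.End.mul_apply, h3 k _ (hU'i v hv)] at h5
      exact h5
    apply hv0
    have h6 := (isCompl_fx_cm h0 hwr).inf_eq_bot
    rw [← Submodule.mem_bot F, ← h6]
    exact ⟨mem_fx.2 h4, (hU'W.trans hWc) hv⟩
  obtain ⟨S, hS, hSi, hSn⟩ := exists_nd_irr hB hw hinj hf hU hU'irr hfU hfU' hti hti' hp h2'
  exact hno S hSi ((hS.trans (sup_le hUW hU'W)).trans hWc) hSn

omit [Fintype F] [FiniteDimensional F V] in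
theorem Isom.mul' {x y : Module.End F V} (hx : Isom B x) (hy : Isom B y) : Isom B (x * y) := fun u v => by
  rw [Module.End.mul_apply, Module.End.mul_apply, hx, hy]

theorem eq_one_of_comm_form {x y : Module.End F V} (hB : Frm σ ε B) (hn : Nd B ⊤) (hxB : Isom B x) (hyB : Isom B y)
    (hr : r.Prime) (h0 : (r : F) ≠ 0) (hr2 : r ≠ 2) [Fact p.Prime] [CharP F p]
    (hx : x ^ r = 1) (hy : y ^ r = 1) (hxy : Commute x y)
    (hV : finrank F V ≤ 4 * orderOf (Fintype.card F : ZMod r) + 1)
    (hno : ∀ i j : ℕ, NoIrr B (x ^ i * y ^ j)) (hy1 : y ≠ 1) (hxy1 : ∀ i : ℕ, x * y ^ i ≠ 1) (hz : z ^ p = 1)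
    (hzx : Commute z x) (hzy : Commute z y) : z = 1 := by
  have hrF : Fact r.Prime := ⟨hr⟩
  have hepos := ord_pos (F := F) h0
  have hcy : cm y ≠ ⊥ := by
    intro h
    apply hy1
    exact sub_eq_zero.1 (LinearMap.range_eq_bot.1 h)
  have hcfy : cm y ⊓ fx y = ⊥ := by
    rw [inf_comm]; exact (isCompl_fx_cm h0 hy).inf_eq_bot
  obtain ⟨i, -, hi⟩ := exists_fixed hr h0 hx hy hxy (inv_cm_of_commute hxy) inv_cm hcy hcfy
  set w := x * y ^ i with hw
  have hcxi : Commute x (y ^ i) := hxy.pow_right i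
  have hw1 : w ≠ 1 := hxy1 i
  have hwr : w ^ r = 1 := by
    rw [hw, hcxi.mul_pow, hx, ← pow_mul, mul_comm i r, pow_mul, hy, one_pow, one_mul]
  have hwB : Isom B w := Isom.mul' hxB (hyB.pow i)
  have hwy : Commute w y := hxy.mul_left (Commute.refl y |>.pow_left i)
  have hzw : Commute z w := hzx.mul_right (hzy.pow_right i)
  have hnoy : NoIrr B y := by
    have h1 := hno 0 1
    rw [pow_zero, pow_one, one_mul] at h1
    exact h1
  have hnow : NoIrr B w := by
    have h1 := hno 1 i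
    rw [pow_one] at h1
    exact h1
  -- the three parts
  have hndfw : Nd B (fx w) := by
    have := hwB.nd_inf_fx hB h0 hwr inv_top hn
    rwa [top_inf_eq] at this
  have hndcw : Nd B (cm w) := by
    have := hwB.nd_inf_cm hB h0 hwr inv_top hn
    rwa [top_inf_eq] at this
  set U := cm y ⊓ fx w with hUdef
  have hUn : Nd B U := by
    rw [hUdef, inf_comm]
    exact hyB.nd_inf_cm hB h0 hy (inv_fx_of_commute hwy.symm) hndfw
  have hUyi : _root_.Cfsg.Agent.H951.Inv y U := inv_cm.inf (inv_fx_of_commute hwy.symm)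
  have hUzi : _root_.Cfsg.Agent.H951.Inv z U := (inv_cm_of_commute hzy).inf (inv_fx_of_commute hzw)
  have hUe := two_mul_le hB hyB h0 hy hnoy hUyi hUn inf_le_left hi
  have hcw : cm w ≠ ⊥ := by
    intro h
    apply hw1
    exact sub_eq_zero.1 (LinearMap.range_eq_bot.1 h)
  have hcwe := two_mul_le hB hwB h0 hwr hnow inv_cm hndcw le_rfl hcw
  have hdim : finrank F (cm w) + finrank F (fx w) = finrank F V := by
    have h1 := Submodule.finrank_add_eq_of_isCompl (isCompl_fx_cm h0 hwr)
    omega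
  set! C := fx w ⊓ fx y with hC
  have hfw : finrank F U + finrank F C = finrank F (fx w) := by
    have h1 : C ⊓ U = ⊥ := by
      rw [eq_bot_iff, ← hcfy]
      rintro v ⟨⟨-, hv2⟩, hv1, -⟩
      exact ⟨hv1, hv2⟩
    have h2 := finrank_sup_of_disj h1
    have h3 : C ⊔ U = fx w := by
      have := inf_fx_sup_inf_cm h0 hy (inv_fx_of_commute hwy.symm)
      rw [inf_comm (fx w) (cm y)] at this
      exact this
    rw [h3] at h2
    omega
  set e := orderOf (Fintype.card F : ZMod r) with he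
  have hz1 : cm w ≤ fx z := le_fx_of_form hB hwB h0 hr2 hwr hnow inv_cm hndcw le_rfl hcw (by omega) hz hzw
    (inv_cm_of_commute hzw)
  have hz2 : U ≤ fx z := le_fx_of_form hB hyB h0 hr2 hy hnoy hUyi hUn inf_le_left hi (by omega) hz hzy hUzi
  have hz3 : C ≤ fx z := by
    by_cases hC0 : C = ⊥
    · rw [hC0]; exact bot_le
    · have h1 : _root_.Cfsg.Agent.H951.Inv z C := (inv_fx_of_commute hzw).inf (inv_fx_of_commute hzy)
      have h2 := inf_fx_ne_bot hz h1 hC0
      have h3 : 0 < finrank F ↥(C ⊓ fx z) := by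
        rw [Module.finrank_pos_iff]
        exact Submodule.nontrivial_iff_ne_bot.2 h2
      have h4 : C ⊓ fx z = C := Submodule.eq_of_le_of_finrank_le inf_le_left (by omega)
      rw [← h4]
      exact inf_le_right
  have hz4 : fx z = ⊤ := by
    rw [eq_top_iff, ← (isCompl_fx_cm h0 hwr).sup_eq_top]
    refine sup_le ?_ hz1
    have := inf_fx_sup_inf_cm h0 hy (inv_fx_of_commute hwy.symm)
    rw [← this]
    refine sup_le hz3 ?_
    rw [inf_comm]
    exact hz2
  ext v
  have h1 : v ∈ fx z := by rw [hz4]; trivial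
  rw [mem_fx.1 h1, Module.End.one_apply]

end Form

section Grp

open Subgroup

variable {T G : Type*} [Group T] [Group G] [Finite G]

/-- **the centralizer of `C_r × C_r` has order prime to `p`** (forms, `ord_r(q)` odd) -/
theorem not_dvd_cent_form {F : Type*} [Field F] [Fintype F] {V : Type*} [AddCommGroup V] [Module F V]
    [FiniteDimensional F V] {σ : F →+* F} {ε : F} {B : V → V → F} (hB : Frm σ ε B) (hnd : Nd B ⊤)
    {r p : ℕ} [hp : Fact p.Prime] [CharP F p]
    (π : G →* T) (hπ : Function.Surjective π) (hK : π.ker ≤ Subgroup.center G) (hr : r.Prime) (hr2 : r ≠ 2)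
    (h0 : (r : F) ≠ 0) (hrK : ¬ r ∣ Nat.card π.ker) (hpK : ¬ p ∣ Nat.card π.ker)
    (ρ : G →* Module.End F V) (hρ : Function.Injective ρ) (hρB : ∀ g, Isom B (ρ g))
    (hV : finrank F V ≤ 4 * orderOf (Fintype.card F : ZMod r) + 1)
    (hno : ∀ g : G, g ^ r = 1 → NoIrr B (ρ g))
    {x y : T} (hx : orderOf x = r) (hy : orderOf y = r) (hxy : x * y = y * x) (hn : y ∉ zpowers x) :
    ¬ p ∣ Nat.card (centralizer ({x, y} : Set T)) := by
  intro hd
  have hfT : Finite T := Finite.of_surjective π hπ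
  obtain ⟨z, hz⟩ := exists_prime_orderOf_dvd_card' (G := centralizer ({x, y} : Set T)) p hd
  have hzo : orderOf (z : T) = p := by rw [Subgroup.orderOf_coe]; exact hz
  have hzc := mem_centralizer_iff.1 z.2
  have hzx : (z : T) * x = x * z := (hzc x (by simp)).symm
  have hzy : (z : T) * y = y * z := (hzc y (by simp)).symm
  have hxr : x ^ r = 1 := hx ▸ pow_orderOf_eq_one x
  have hyr : y ^ r = 1 := hy ▸ pow_orderOf_eq_one y
  have hzp : (z : T) ^ p = 1 := hzo ▸ pow_orderOf_eq_one (z : T)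
  have hrp : r ≠ p := by
    rintro rfl
    exact h0 (CharP.cast_eq_zero F r)
  obtain ⟨a, rfl, har⟩ := H884.Cg.exists_lift π hπ hr hrK hxr
  obtain ⟨b, rfl, hbr⟩ := H884.Cg.exists_lift π hπ hr hrK hyr
  obtain ⟨c, hcz, hcp⟩ := H884.Cg.exists_lift π hπ hp.1 hpK hzp
  have hrr : ∀ k : G, k ∈ π.ker → k ^ r = 1 → k = 1 := by
    intro k hk hkr
    have h7 : (⟨k, hk⟩ : π.ker) = 1 := by
      have h8 : orderOf (⟨k, hk⟩ : π.ker) ∣ r := orderOf_dvd_of_pow_eq_one (Subtype.ext hkr)
      have h9 : orderOf (⟨k, hk⟩ : π.ker) ∣ Nat.card π.ker := _root_.orderOf_dvd_natCard _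
      rcases (Nat.dvd_prime hr).1 h8 with h10 | h10
      · exact orderOf_eq_one_iff.1 h10
      · exact absurd (h10 ▸ h9) hrK
    exact congrArg Subtype.val h7
  have hab : a * b = b * a := comm_of_lift π hK har hbr (fun k hk h1 _ => hrr k hk h1) hxy
  have hca : c * a = a * c := comm_of_lift π hK hcp har (fun k hk _ h1 => hrr k hk h1) (by rw [hcz]; exact hzx)
  have hcb : c * b = b * c := comm_of_lift π hK hcp hbr (fun k hk _ h1 => hrr k hk h1) (by rw [hcz]; exact hzy)
  have hρ1 : ∀ g : G, ρ g = 1 → g = 1 := fun g h => hρ (by rw [h, map_one])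
  have hb1 : b ≠ 1 := by
    rintro rfl
    rw [map_one, orderOf_one] at hy
    exact hr.one_lt.ne hy
  have key : ∀ i : ℕ, a * b ^ i ≠ 1 := by
    intro i h3
    apply hn
    have h4 : π a = (π b ^ i)⁻¹ := by
      rw [eq_inv_iff_mul_eq_one, ← map_pow, ← map_mul, h3, map_one]
    have h5 : Subgroup.zpowers (π a) ≤ Subgroup.zpowers (π b) := by
      rw [Subgroup.zpowers_le, h4]
      exact inv_mem (Subgroup.npow_mem_zpowers _ _)
    have h6 : Subgroup.zpowers (π a) = Subgroup.zpowers (π b) :=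
      Subgroup.eq_of_le_of_card_ge h5 (by rw [Nat.card_zpowers, Nat.card_zpowers, hx, hy])
    rw [h6]
    exact Subgroup.mem_zpowers _
  have hc1 : ρ c = 1 := by
    refine eq_one_of_comm_form (x := ρ a) (y := ρ b) (z := ρ c) (r := r) (p := p) hB hnd (hρB a) (hρB b) hr h0 hr2
      (by rw [← map_pow, har, map_one]) (by rw [← map_pow, hbr, map_one])
      (show ρ a * ρ b = ρ b * ρ a by rw [← map_mul, ← map_mul, hab]) hV ?_ ?_ ?_
      (by rw [← map_pow, hcp, map_one]) (show ρ c * ρ a = ρ a * ρ c by rw [← map_mul, ← map_mul, hca])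
      (show ρ c * ρ b = ρ b * ρ c by rw [← map_mul, ← map_mul, hcb])
    · intro i j
      rw [← map_pow, ← map_pow, ← map_mul]
      apply hno
      have hc : Commute (a ^ i) (b ^ j) := (show Commute a b from hab).pow_pow i j
      rw [hc.mul_pow, ← pow_mul, ← pow_mul, mul_comm i, mul_comm j, pow_mul, pow_mul, har, hbr, one_pow, one_pow,
        one_mul]
    · intro h
      exact hb1 (hρ1 b h)
    · intro i h
      rw [← map_pow, ← map_mul] at h
      exact key i (hρ1 _ h)
  have hc2 : c = 1 := hρ1 c hc1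
  rw [hc2, map_one] at hcz
  rw [← hcz, orderOf_one] at hzo
  exact hp.1.one_lt.ne hzo

end Grp

section Inst

variable {F : Type*} [Field F] [Fintype F] {V : Type*} [AddCommGroup V] [Module F V] [FiniteDimensional F V]
  {σ : F →+* F} {ε : F} {B : V → V → F} {w : Module.End F V} {r : ℕ}

/-- alternating forms -/
theorem noIrr_alt (hB : Frm (RingHom.id F) (-1) B) (ha : ∀ v, B v v = 0) [hr : Fact r.Prime] (h0 : (r : F) ≠ 0)
    (hwr : w ^ r = 1) (hodd : Odd (orderOf (Fintype.card F : ZMod r))) : NoIrr B w := by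
  intro S hS hc hn
  have h1 := hS.finrank_eq h0 hwr hc
  have h2 := even_of_kind hB (Or.inr ⟨rfl, rfl, ha⟩) hn rfl
  rw [h1] at h2
  exact (Nat.not_even_iff_odd.2 hodd) h2

end Inst

end Cfsg.Agent.H57.BG
end

-- part: H57/BG/Idx
section
/-!
# Indices of the inner automorphism groups, and arithmetic (S3561, helper57)
-/

set_option autoImplicit false

namespace Cfsg.Agent.H57.BG

open Subgroup

universe u

theorem index_inn_of_aut {T : Type u} [Group T] [Finite T] (hc : center T = ⊥) {n : ℕ}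
    (h : Nat.card (MulAut T) = n * Nat.card T) : (Inn T).index = n := by
  have hinj := conj_injective hc
  have h1 : Nat.card (Inn T) = Nat.card T := (Nat.card_congr (MonoidHom.ofInjective hinj).toEquiv).symm
  have h2 := (Inn T).index_mul_card
  rw [h1, h] at h2
  exact Nat.eq_of_mul_eq_mul_right Nat.card_pos h2

/-- a power of two not dividing `c f`, `c` small -/
theorem not_pow_dvd_of_lt {p k n : ℕ} (hn : 0 < n) (h : n < p ^ k) : ¬ p ^ k ∣ n := fun hd =>
  absurd (Nat.le_of_dvd hn hd) (by omega)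

end Cfsg.Agent.H57.BG
end

-- part: H57/BG/KField
section
/-!
# The normaliser of a quadratic field in `Sp_4(q)` (S3561, helper57)

* `no_pair` : it contains no `C_r × C_r`, `r` an odd prime different from the characteristic;
* `card_p_dvd` : the order of a `p`-group centralizing the field divides `q ^ 2`.
-/

set_option autoImplicit false
set_option linter.unusedSectionVars false

namespace Cfsg.Agent.H57.BG

open Module Cfsg Cfsg.Geo Cfsg.Agent.H951 Cfsg.Agent.H884.Cg
open Cfsg.Agent.H884.El (lin)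
open scoped MatrixGroups Matrix

variable {F : Type*} [Field F] {ι : Type} [Fintype ι] [DecidableEq ι]

/-- an element of odd order of the normaliser of a quadratic field centralizes it -/
theorem comm_of_odd [Finite F] {K : Subalgebra F (Matrix ι ι F)} (hK : IsFieldSubalgebra 2 K)
    (hne : 0 < Fintype.card ι) {g : GL ι F} (hg : g ∈ subalgebraNormalizer K) {r : ℕ} (hr : Odd r) (hgr : g ^ r = 1) :
    ∀ k ∈ K, (g : Matrix ι ι F) * k = k * (g : Matrix ι ι F) := by
  haveI : Nonempty ι := Fintype.card_pos_iff.1 hne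
  have hfield : IsField K :=
    { exists_pair_ne := ⟨0, 1, fun h => by
        have := congrArg Subtype.val h
        exact zero_ne_one (α := Matrix ι ι F) this⟩
      mul_comm := fun x y => Subtype.ext (hK.comm x.1 x.2 y.1 y.2)
      mul_inv_cancel := fun {x} hx => by
        obtain ⟨y, hy, hxy⟩ := hK.inv x.1 x.2 (fun h => hx (Subtype.ext h))
        exact ⟨⟨y, hy⟩, Subtype.ext hxy⟩ }
  letI : Field K := hfield.toField
  haveI : Finite K := Module.finite_of_finite F
  have hcard : Nat.card (K ≃ₐ[F] K) = 2 := by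
    rw [IsGalois.card_aut_eq_finrank]
    exact hK.finrank_eq
  have hsq : ∀ h : GL ι F, ∀ hh : h ∈ subalgebraNormalizer K, ∀ k ∈ K,
      (h : Matrix ι ι F) * ((h : Matrix ι ι F) * k * ((h⁻¹ : GL ι F) : Matrix ι ι F)) *
        ((h⁻¹ : GL ι F) : Matrix ι ι F) = k := by
    intro h hh k hk
    have h1 : H922.conjK K h hh ^ 2 = 1 := by
      rw [← hcard]
      exact pow_card_eq_one'
    have h2 := congrArg (fun φ : K ≃ₐ[F] K => ((φ ⟨k, hk⟩ : K) : Matrix ι ι F)) h1
    simp only [pow_two, AlgEquiv.mul_apply] at h2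
    rw [H922.conjK_apply, H922.conjK_apply] at h2
    exact h2
  obtain ⟨j, hj⟩ := hr
  have h1 : g = (g ^ (j + 1)) * (g ^ (j + 1)) := by
    rw [← pow_add]
    have h2 : j + 1 + (j + 1) = r + 1 := by omega
    rw [h2, pow_succ, hgr, one_mul]
  intro k hk
  have h2 := hsq (g ^ (j + 1)) (Subgroup.pow_mem _ hg _) k hk
  set h := g ^ (j + 1) with hh
  have h3 : ((h * h : GL ι F) : Matrix ι ι F) * k = k * ((h * h : GL ι F) : Matrix ι ι F) := by
    have h4 : ((h⁻¹ : GL ι F) : Matrix ι ι F) * (h : Matrix ι ι F) = 1 := by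
      rw [← Units.val_mul, inv_mul_cancel, Units.val_one]
    have h5 : k * ((h : Matrix ι ι F) * (h : Matrix ι ι F)) = (h : Matrix ι ι F) * ((h : Matrix ι ι F) * k) := by
      conv_lhs => rw [← h2]
      simp only [mul_assoc]
      rw [← mul_assoc ((h⁻¹ : GL ι F) : Matrix ι ι F) (h : Matrix ι ι F), h4, one_mul, h4, mul_one]
    rw [Units.val_mul, h5, mul_assoc]
  rw [← h1] at h3
  exact h3

section Sub

variable {K : Subalgebra F (Matrix ι ι F)} {r : ℕ}

theorem finrank_ge (hK : IsFieldSubalgebra r K) {U : Submodule F (ι → F)} (hU : ∀ k ∈ K, ∀ v ∈ U, k *ᵥ v ∈ U)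
    {u : ι → F} (hu : u ∈ U) (hu0 : u ≠ 0) : ∃ L : K →ₗ[F] U, Function.Injective L ∧
      (∀ k : K, ((L k : U) : ι → F) = (k : Matrix ι ι F) *ᵥ u) ∧ r ≤ finrank F U := by
  let L : K →ₗ[F] U :=
    { toFun := fun k => ⟨(k : Matrix ι ι F) *ᵥ u, hU k.1 k.2 u hu⟩
      map_add' := fun a b => Subtype.ext (Matrix.add_mulVec (a : Matrix ι ι F) (b : Matrix ι ι F) u)
      map_smul' := fun c a => Subtype.ext (Matrix.smul_mulVec c (a : Matrix ι ι F) u) }
  have hL : ∀ k : K, ((L k : U) : ι → F) = (k : Matrix ι ι F) *ᵥ u := fun _ => rfl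
  have hinj : Function.Injective L := by
    rw [injective_iff_map_eq_zero]
    intro k hk
    by_contra h0
    obtain ⟨y, hy, hy1⟩ := hK.inv k.1 k.2 (fun h => h0 (Subtype.ext h))
    rw [hK.comm k.1 k.2 y hy] at hy1
    apply hu0
    have h2 : (k : Matrix ι ι F) *ᵥ u = 0 := by rw [← hL, hk]; rfl
    have h1 : (y * k.1) *ᵥ u = 0 := by
      rw [← Matrix.mulVec_mulVec, h2, Matrix.mulVec_zero]
    rwa [hy1, Matrix.one_mulVec] at h1
  refine ⟨L, hinj, hL, ?_⟩
  rw [← hK.finrank_eq]
  exact LinearMap.finrank_le_finrank_of_injective hinj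

end Sub

variable {f : (ι → F) → (ι → F) → F} {ε : F}

/-- **no `C_r × C_r`** -/
theorem no_pair [Finite F] {K : Subalgebra F (Matrix ι ι F)} (hK : IsFieldSubalgebra 2 K)
    (hB : Frm (RingHom.id F) ε f) (hnd : Nd f ⊤)
    (hsa : IsSelfAdjointFor f K) (hι : Fintype.card ι = 4) {x y : GL ι F}
    (hx : x ∈ subalgebraNormalizer K) (hy : y ∈ subalgebraNormalizer K)
    (hxf : Isom f (lin x)) (hyf : Isom f (lin y)) {r : ℕ} (hr : r.Prime) (hr2 : r ≠ 2) (h0 : (r : F) ≠ 0)
    (hxr : x ^ r = 1) (hyr : y ^ r = 1) (hxy : x * y = y * x) (hy1 : y ≠ 1) (hxy1 : ∀ i : ℕ, x * y ^ i ≠ 1) :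
    False := by
  have hodd := hr.odd_of_ne_two hr2
  have hlinmul : ∀ g h : GL ι F, lin (g * h) = lin g * lin h := fun g h => by
    show Matrix.toLin' _ = _
    rw [Units.val_mul, Matrix.toLin'_mul]
    rfl
  have hpow : ∀ (g : GL ι F) (n : ℕ), lin (g ^ n) = lin g ^ n := fun g n => by
    induction n with
    | zero => rw [pow_zero, pow_zero]; exact H884.El.lin_one
    | succ n ih => rw [pow_succ, pow_succ, hlinmul, ih]
  have hX : lin x ^ r = 1 := by rw [← hpow, hxr]; exact H884.El.lin_one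
  have hY : lin y ^ r = 1 := by rw [← hpow, hyr]; exact H884.El.lin_one
  have hXY : Commute (lin x) (lin y) := by
    show lin x * lin y = lin y * lin x
    rw [← hlinmul, ← hlinmul, hxy]
  have hcy : cm (lin y) ≠ ⊥ := H884.El.cm_ne_bot (H884.El.lin_ne_one hy1)
  have hcfy : cm (lin y) ⊓ fx (lin y) = ⊥ := by
    rw [inf_comm]; exact (isCompl_fx_cm h0 hY).inf_eq_bot
  obtain ⟨i, -, hi⟩ := exists_fixed hr h0 hX hY hXY (inv_cm_of_commute hXY) inv_cm hcy hcfy
  set! w := x * y ^ i with hw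
  have hwlin : lin w = lin x * lin y ^ i := by rw [hw, hlinmul, hpow]
  rw [← hwlin] at hi
  have hcxi : Commute x (y ^ i) := (show Commute x y from hxy).pow_right i
  have hw1 : w ≠ 1 := hxy1 i
  have hwr : w ^ r = 1 := by
    rw [hw, hcxi.mul_pow, hxr, ← pow_mul, mul_comm i r, pow_mul, hyr, one_pow, one_mul]
  have hwN : w ∈ subalgebraNormalizer K := Subgroup.mul_mem _ hx (Subgroup.pow_mem _ hy _)
  have hwf : Isom f (lin w) := by
    rw [hwlin]
    intro u v
    rw [Module.End.mul_apply, Module.End.mul_apply, hxf, hyf.pow i]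
  have hWr : lin w ^ r = 1 := by rw [← hpow, hwr]; exact H884.El.lin_one
  have hwK := comm_of_odd hK (by omega) hwN hodd hwr
  have happ : ∀ v, lin w v = (w : Matrix ι ι F) *ᵥ v := fun v => Matrix.toLin'_apply _ _
  -- the two `K`-invariant subspaces
  have hKf : ∀ k ∈ K, ∀ v ∈ fx (lin w), k *ᵥ v ∈ fx (lin w) := by
    intro k hk v hv
    have h1 := mem_fx.1 hv
    rw [mem_fx, happ, Matrix.mulVec_mulVec, hwK k hk, ← Matrix.mulVec_mulVec, ← happ, h1]
  have hKc : ∀ k ∈ K, ∀ v ∈ cm (lin w), k *ᵥ v ∈ cm (lin w) := by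
    intro k hk v hv
    obtain ⟨u, rfl⟩ := mem_cm.1 hv
    refine mem_cm.2 ⟨k *ᵥ u, ?_⟩
    rw [Matrix.mulVec_sub, happ, happ, Matrix.mulVec_mulVec, Matrix.mulVec_mulVec, hwK k hk]
  have hfx0 : fx (lin w) ≠ ⊥ := by
    intro h
    apply hi
    rw [h, inf_bot_eq]
  have hcm0 : cm (lin w) ≠ ⊥ := H884.El.cm_ne_bot (H884.El.lin_ne_one hw1)
  obtain ⟨a, ha, ha0⟩ := (Submodule.ne_bot_iff _).1 hfx0
  obtain ⟨u, hu, hu0⟩ := (Submodule.ne_bot_iff _).1 hcm0
  obtain ⟨-, -, -, hf2⟩ := finrank_ge hK hKf ha ha0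
  obtain ⟨L, hLinj, hL, hc2⟩ := finrank_ge hK hKc hu hu0
  have hdim := Submodule.finrank_add_eq_of_isCompl (isCompl_fx_cm h0 hWr)
  rw [finrank_fintype_fun_eq_card, hι] at hdim
  have hc2' : finrank F (cm (lin w)) = 2 := by omega
  haveI : Module.Finite F K := inferInstance
  have hLsurj : Function.Surjective L := by
    rw [← LinearMap.range_eq_top]
    apply Submodule.eq_top_of_finrank_eq
    rw [LinearMap.finrank_range_of_inj hLinj, hc2']
    exact hK.finrank_eq
  obtain ⟨κ, hκ⟩ := hLsurj ⟨lin w u, inv_cm u hu⟩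
  have hκ' : (κ : Matrix ι ι F) *ᵥ u = lin w u := by rw [← hL, hκ]
  have hκall : ∀ b ∈ cm (lin w), lin w b = (κ : Matrix ι ι F) *ᵥ b := by
    intro b hb
    obtain ⟨k, hk⟩ := hLsurj ⟨b, hb⟩
    have hk' : (k : Matrix ι ι F) *ᵥ u = b := by rw [← hL, hk]
    rw [← hk', happ, Matrix.mulVec_mulVec, hwK k.1 k.2, ← Matrix.mulVec_mulVec, ← happ, ← hκ', Matrix.mulVec_mulVec,
      Matrix.mulVec_mulVec, hK.comm _ k.2 _ κ.2]
  have hndc : Nd f (cm (lin w)) := by
    have := hwf.nd_inf_cm hB h0 hWr inv_top hnd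
    rwa [top_inf_eq] at this
  have hsq : ∀ b ∈ cm (lin w), lin w (lin w b) = b := by
    intro b hb
    by_contra hne
    have hwb : lin w b ∈ cm (lin w) := inv_cm b hb
    have hwwb : lin w (lin w b) ∈ cm (lin w) := inv_cm _ hwb
    have h1 : lin w (lin w b) - b ∈ cm (lin w) := (cm (lin w)).sub_mem hwwb hb
    obtain ⟨c, hc, hc0⟩ := hndc _ h1 (sub_ne_zero.2 hne)
    apply hc0
    rw [hB.sub_left, sub_eq_zero]
    have h2 : f (lin w b) (lin w c) = f b c := hwf b c
    rw [← h2, hκall c hc, ← hsa κ.1 κ.2, hκall _ hwb]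
  obtain ⟨j, hj⟩ := hodd
  apply hu0
  have hev : ∀ n : ℕ, (lin w ^ (2 * n)) u = u := by
    intro n
    induction n with
    | zero => simp
    | succ n ih => rw [mul_add, mul_one, pow_add, Module.End.mul_apply, pow_two, Module.End.mul_apply, hsq u hu, ih]
  have hfu : lin w u = u := by
    have h5 : (lin w ^ r) u = u := by rw [hWr]; rfl
    rw [hj, pow_succ', Module.End.mul_apply, hev] at h5
    exact h5
  rw [← Submodule.mem_bot F, ← (isCompl_fx_cm h0 hWr).inf_eq_bot]
  exact ⟨mem_fx.2 hfu, hu⟩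

/-- evaluation of the elements of `K` at a vector -/
noncomputable def evK (K : Subalgebra F (Matrix ι ι F)) (a : ι → F) : K →ₗ[F] (ι → F) where
  toFun k := (k : Matrix ι ι F) *ᵥ a
  map_add' x y := Matrix.add_mulVec (x : Matrix ι ι F) (y : Matrix ι ι F) a
  map_smul' c x := Matrix.smul_mulVec c (x : Matrix ι ι F) a

theorem evK_injective {r : ℕ} {K : Subalgebra F (Matrix ι ι F)} (hK : IsFieldSubalgebra r K) {a : ι → F} (ha : a ≠ 0) :
    Function.Injective (evK K a) := by
  rw [injective_iff_map_eq_zero]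
  intro k hk
  by_contra h0
  obtain ⟨y, hy, hy1⟩ := hK.inv k.1 k.2 (fun h => h0 (Subtype.ext h))
  rw [hK.comm k.1 k.2 y hy] at hy1
  apply ha
  have h2 : (k : Matrix ι ι F) *ᵥ a = 0 := hk
  have h1 : (y * k.1) *ᵥ a = 0 := by
    rw [← Matrix.mulVec_mulVec, h2, Matrix.mulVec_zero]
  rwa [hy1, Matrix.one_mulVec] at h1

/-- **the `p`-part of the centralizer of the field** -/
theorem card_p_dvd [Fintype F] {K : Subalgebra F (Matrix ι ι F)} (hK : IsFieldSubalgebra 2 K)
    (hι : Fintype.card ι = 4) {p : ℕ} [hp : Fact p.Prime] [CharP F p] (P : Subgroup (GL ι F)) (hP : IsPGroup p P)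
    (hc : ∀ g ∈ P, ∀ k ∈ K, (g : Matrix ι ι F) * k = k * (g : Matrix ι ι F)) :
    Nat.card P ∣ Fintype.card F ^ 2 := by
  classical
  have hq := Fintype.one_lt_card (α := F)
  obtain ⟨n, -, hn⟩ := FiniteField.card F p
  have hcardV : Nat.card (ι → F) = Fintype.card F ^ 4 := by
    rw [Nat.card_eq_fintype_card, Fintype.card_fun, hι]
  letI : MulAction P (ι → F) :=
    { smul := fun g v => ((g : GL ι F) : Matrix ι ι F) *ᵥ v
      one_smul := fun v => by
        show (((1 : P) : GL ι F) : Matrix ι ι F) *ᵥ v = v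
        simp only [_root_.OneMemClass.coe_one, _root_.Units.val_one, _root_.Matrix.one_mulVec]
      mul_smul := fun g h v => by
        show (((g * h : P) : GL ι F) : Matrix ι ι F) *ᵥ v = _ *ᵥ (_ *ᵥ v)
        rw [Subgroup.coe_mul, Units.val_mul, Matrix.mulVec_mulVec] }
  have hsm : ∀ (g : P) (v : ι → F), g • v = ((g : GL ι F) : Matrix ι ι F) *ᵥ v := fun _ _ => rfl
  obtain ⟨u, hu, hu0⟩ := hP.exists_fixed_point_of_prime_dvd_card_of_fixed_point (ι → F)
    (by
      rw [hcardV, hn]
      exact dvd_pow (dvd_pow_self p n.ne_zero) (by norm_num))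
    (a := 0) (fun g => by rw [hsm, Matrix.mulVec_zero])
  have hu0' : u ≠ 0 := fun h => hu0 h.symm
  haveI : Module.Finite F K := inferInstance
  set! W := LinearMap.range (evK K u) with hW
  have hmemW : ∀ {v : ι → F}, v ∈ W ↔ ∃ k : K, (k : Matrix ι ι F) *ᵥ u = v := fun {v} => LinearMap.mem_range
  have hrank : ∀ {a : ι → F}, a ≠ 0 → finrank F (LinearMap.range (evK K a)) = 2 := fun {a} ha => by
    rw [LinearMap.finrank_range_of_inj (evK_injective hK ha)]
    exact hK.finrank_eq
  have hfixW : ∀ (g : P), ∀ v ∈ W, ((g : GL ι F) : Matrix ι ι F) *ᵥ v = v := by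
    intro g v hv
    obtain ⟨k, rfl⟩ := hmemW.1 hv
    rw [Matrix.mulVec_mulVec, hc g g.2 k k.2, ← Matrix.mulVec_mulVec]
    congr 1
    exact hu g
  have hKW : ∀ k ∈ K, ∀ v ∈ W, k *ᵥ v ∈ W := by
    intro k hk v hv
    obtain ⟨l, rfl⟩ := hmemW.1 hv
    exact hmemW.2 ⟨⟨k, hk⟩ * l, by rw [Subalgebra.coe_mul, Matrix.mulVec_mulVec]⟩
  -- the action outside `W`
  have hX : ∀ (g : P) (v : ι → F), v ∉ W → g • v ∉ W := by
    intro g v hv h
    apply hv
    have h1 := hfixW g⁻¹ _ h
    rw [hsm, Matrix.mulVec_mulVec, ← Units.val_mul, ← Subgroup.coe_mul, inv_mul_cancel, Subgroup.coe_one,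
      Units.val_one, Matrix.one_mulVec] at h1
    rw [h1]
    exact h
  letI : MulAction P {v : ι → F // v ∉ W} :=
    { smul := fun g v => ⟨g • v.1, hX g v.1 v.2⟩
      one_smul := fun v => Subtype.ext (one_smul P v.1)
      mul_smul := fun g h v => Subtype.ext (mul_smul g h v.1) }
  have hfree : ∀ a : {v : ι → F // v ∉ W}, MulAction.stabilizer P a = ⊥ := by
    intro a
    rw [eq_bot_iff]
    intro g hg
    rw [Subgroup.mem_bot]
    have hga : ((g : GL ι F) : Matrix ι ι F) *ᵥ a.1 = a.1 := congrArg Subtype.val (MulAction.mem_stabilizer_iff.1 hg)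
    have ha0 : a.1 ≠ 0 := by
      intro h
      exact a.2 (by rw [h]; exact W.zero_mem)
    have hdis : W ⊓ LinearMap.range (evK K a.1) = ⊥ := by
      rw [eq_bot_iff]
      rintro v ⟨hv1, k, rfl⟩
      rw [Submodule.mem_bot]
      by_contra hne
      have hk0 : (k : Matrix ι ι F) ≠ 0 := by
        intro h
        apply hne
        show (k : Matrix ι ι F) *ᵥ a.1 = 0
        rw [h, Matrix.zero_mulVec]
      obtain ⟨y, hy, hy1⟩ := hK.inv k.1 k.2 hk0
      apply a.2
      have h1 := hKW y hy _ hv1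
      have h2 : y *ᵥ ((evK K a.1) k) = a.1 := by
        show y *ᵥ ((k : Matrix ι ι F) *ᵥ a.1) = a.1
        rw [Matrix.mulVec_mulVec, ← hK.comm k.1 k.2 y hy, hy1, Matrix.one_mulVec]
      rw [h2] at h1
      exact h1
    have htop : W ⊔ LinearMap.range (evK K a.1) = ⊤ := by
      apply Submodule.eq_top_of_finrank_eq
      rw [finrank_sup_of_disj hdis, hrank hu0', hrank ha0, finrank_fintype_fun_eq_card, hι]
    have hall : ∀ v : ι → F, ((g : GL ι F) : Matrix ι ι F) *ᵥ v = v := by
      intro v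
      have hv : v ∈ W ⊔ LinearMap.range (evK K a.1) := by rw [htop]; trivial
      obtain ⟨b, hb, c, ⟨k, rfl⟩, rfl⟩ := Submodule.mem_sup.1 hv
      rw [Matrix.mulVec_add, hfixW g b hb]
      congr 1
      show ((g : GL ι F) : Matrix ι ι F) *ᵥ ((k : Matrix ι ι F) *ᵥ a.1) = (k : Matrix ι ι F) *ᵥ a.1
      rw [Matrix.mulVec_mulVec, hc g g.2 k k.2, ← Matrix.mulVec_mulVec, hga]
    apply Subtype.ext
    apply Units.ext
    rw [Subgroup.coe_one, Units.val_one]
    exact Matrix.ext_of_mulVec_single fun i => by rw [hall, Matrix.one_mulVec]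
  have hdvd := Cfsg.Agent.H355.card_dvd_of_free hfree
  have hcardX : Nat.card {v : ι → F // v ∉ W} = Fintype.card F ^ 4 - Fintype.card F ^ 2 := by
    have h1 : Nat.card W = Fintype.card F ^ 2 := by
      rw [Nat.card_eq_fintype_card, Module.card_eq_pow_finrank (K := F) (V := W), hrank hu0']
    rw [← hcardV, ← h1]
    have h2 := Fintype.card_subtype_compl (fun v : ι → F => v ∈ W)
    rw [Nat.card_eq_fintype_card, Nat.card_eq_fintype_card, Nat.card_eq_fintype_card]
    exact h2
  rw [hcardX] at hdvd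
  obtain ⟨s, hs⟩ := IsPGroup.iff_card.1 hP
  rw [hs] at hdvd ⊢
  have h3 : Fintype.card F ^ 4 - Fintype.card F ^ 2 = Fintype.card F ^ 2 * (Fintype.card F ^ 2 - 1) := by
    rw [Nat.mul_sub, ← pow_add, mul_one]
  rw [h3] at hdvd
  refine Nat.Coprime.dvd_of_dvd_mul_right (Nat.Coprime.pow_left s ?_) hdvd
  rw [Nat.Prime.coprime_iff_not_dvd hp.1]
  intro h4
  have h5 : p ∣ Fintype.card F ^ 2 := by
    rw [hn]
    exact dvd_pow (dvd_pow_self p n.ne_zero) (by norm_num)
  have h6 : 1 ≤ Fintype.card F ^ 2 := Nat.one_le_pow _ _ (by omega)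
  have h7 : p ∣ 1 := by
    have := (Nat.dvd_sub h5 h4)
    rwa [Nat.sub_sub_self h6] at this
  exact hp.1.one_lt.ne' (Nat.dvd_one.1 h7)

end Cfsg.Agent.H57.BG
end

-- part: H57/BG/SpKill
section
/-!
# The special geometric subgroups of `PSp_2m(q)` (S3561, helper57)

* `index_pre` : `|T : R| = |Sp : pre R|`;
* `not_dvd_cent_psp` : the centralizer of `C_r × C_r` in `PSp_2m(q)` has order prime to `p`;
* `form_index` : a subgroup fixing a quadratic form (`q` even): `2 |T : R|` is a multiple of `q ^ m (q ^ m ± 1)`;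
* `field_index` : a subgroup normalising a self-adjoint quadratic field (`m = 2`).
-/

set_option autoImplicit false
set_option linter.unusedSectionVars false

namespace Cfsg.Agent.H57.BG

open Module Cfsg Cfsg.Geo Subgroup Cfsg.Agent.H951
open Cfsg.Agent.H262.El (pre)
open Cfsg.Agent.H884.El (lin)
open Cfsg.Agent.ClassicalGeometry.SympBasic Cfsg.Agent.H876 Cfsg.Agent.H931
open scoped MatrixGroups Matrix

universe u

variable {F : Type u} [Field F] {m : ℕ}

theorem spGL_eq_map : spGL m F = (⊤ : Subgroup (Matrix.symplecticGroup (Fin m) F)).map (spToGL m F) := by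
  ext g
  constructor
  · intro hg
    obtain ⟨A, rfl⟩ := exists_spToGL hg
    exact ⟨A, trivial, rfl⟩
  · rintro ⟨A, -, rfl⟩
    exact spToGL_mem A

theorem index_pre (R : Subgroup (PSp m F)) : (pre R).relIndex (spGL m F) = R.index := by
  unfold H262.El.pre
  rw [spGL_eq_map, relIndex_map_map_of_injective _ _ H262.El.spToGL_injective, relIndex_top_right,
    index_comap_of_surjective _ (QuotientGroup.mk'_surjective _)]

/-- the symplectic form -/
theorem frm_symp : Frm (RingHom.id F) (-1) (sympForm m F) where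
  add_left := sympForm_add_left
  smul_left := sympForm_smul_left
  herm u v := by rw [RingHom.id_apply, neg_one_mul]; exact sympForm_swap _ _
  sigma_sq _ := rfl
  eps_ne := neg_ne_zero.2 one_ne_zero

theorem nd_symp : Nd (sympForm m F) ⊤ := by
  intro u _ hu
  by_contra hcon
  push Not at hcon
  exact hu (eq_zero_of_forall_sympForm_right fun v => hcon v trivial)

/-- the natural representation of `Sp` -/
noncomputable def repS (m : ℕ) (F : Type u) [Field F] :
    Matrix.symplecticGroup (Fin m) F →* Module.End F (Fin m ⊕ Fin m → F) where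
  toFun A := Matrix.toLin' (A : Matrix (Fin m ⊕ Fin m) (Fin m ⊕ Fin m) F)
  map_one' := Matrix.toLin'_one
  map_mul' A B := Matrix.toLin'_mul _ _

theorem repS_injective : Function.Injective (repS m F) := fun _ _ h => Subtype.ext (Matrix.toLin'.injective h)

theorem repS_isom (A : Matrix.symplecticGroup (Fin m) F) : Isom (sympForm m F) (repS m F A) :=
  fun u v => mem_symplecticGroup_iff.1 A.2 u v

theorem not_dvd_cent_psp [Fintype F] (hm : 1 ≤ m) {p r : ℕ} [hp : Fact p.Prime] [CharP F p] (hr : r.Prime) (hr2 : r ≠ 2)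
    (h0 : (r : F) ≠ 0)
    (he : (2 ≤ orderOf (Fintype.card F : ZMod r) ∧ m ≤ orderOf (Fintype.card F : ZMod r)) ∨
      (Odd (orderOf (Fintype.card F : ZMod r)) ∧ m ≤ 2 * orderOf (Fintype.card F : ZMod r)))
    {x y : PSp m F} (hx : orderOf x = r) (hy : orderOf y = r) (hxy : x * y = y * x) (hn : y ∉ zpowers x) :
    ¬ p ∣ Nat.card (centralizer ({x, y} : Set (PSp m F))) := by
  have hrF : Fact r.Prime := ⟨hr⟩
  have hcard := Cfsg.Agent.S0246.result (F := F) rfl m hm
  have hK : (QuotientGroup.mk' (Subgroup.center (Matrix.symplecticGroup (Fin m) F))).ker ≤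
      Subgroup.center (Matrix.symplecticGroup (Fin m) F) := by rw [QuotientGroup.ker_mk']
  have hrK : ¬ r ∣ Nat.card (QuotientGroup.mk' (Subgroup.center (Matrix.symplecticGroup (Fin m) F))).ker := by
    rw [QuotientGroup.ker_mk', hcard]
    intro h
    exact hr2 ((Nat.prime_dvd_prime_iff_eq hr Nat.prime_two).1 (h.trans (Nat.gcd_dvd_left _ _)))
  have hpK : ¬ p ∣ Nat.card (QuotientGroup.mk' (Subgroup.center (Matrix.symplecticGroup (Fin m) F))).ker := by
    rw [QuotientGroup.ker_mk', hcard]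
    intro h
    obtain ⟨n, -, hn⟩ := FiniteField.card F p
    have h1 : p = 2 := (Nat.prime_dvd_prime_iff_eq hp.1 Nat.prime_two).1 (h.trans (Nat.gcd_dvd_left _ _))
    have h2 : p ∣ Fintype.card F - 1 := h.trans (Nat.gcd_dvd_right _ _)
    have h3 : p ∣ Fintype.card F := by rw [hn]; exact dvd_pow_self p n.ne_zero
    have h4 : 1 ≤ Fintype.card F := Fintype.card_pos
    have h5 := Nat.dvd_sub h3 h2
    rw [Nat.sub_sub_self h4] at h5
    exact hp.1.one_lt.ne' (Nat.dvd_one.1 h5)
  have hdim : finrank F (Fin m ⊕ Fin m → F) = 2 * m := by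
    rw [finrank_fintype_fun_eq_card, Fintype.card_sum, Fintype.card_fin]; ring
  rcases he with ⟨h2, hle⟩ | ⟨hodd, hle⟩
  · refine not_dvd_cent_of (QuotientGroup.mk' _) (QuotientGroup.mk'_surjective _) hK hr h0 hrK hpK (repS m F)
      repS_injective h2 (by rw [hdim]; omega) ?_ hx hy hxy hn
    intro g hg U hU hUf hU0
    have hgr : repS m F g ^ r = 1 := by rw [← map_pow, hg, map_one]
    have h1 := H951.ord_dvd_finrank hgr hU hUf
    exact Nat.le_of_dvd (Nat.pos_of_ne_zero fun h => hU0 (Submodule.finrank_eq_zero.1 h)) h1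
  · refine not_dvd_cent_form frm_symp nd_symp (QuotientGroup.mk' _) (QuotientGroup.mk'_surjective _) hK hr hr2 h0 hrK hpK
      (repS m F) repS_injective repS_isom (by rw [hdim]; omega) ?_ hx hy hxy hn
    intro g hg
    exact noIrr_alt frm_symp (fun v => sympForm_self v) h0 (by rw [← map_pow, hg, map_one]) hodd

section Form

theorem card_mul_relIndex {G : Type*} [Group G] {H K : Subgroup G} (h : H ≤ K) :
    Nat.card H * H.relIndex K = Nat.card K := by
  rw [← Nat.card_congr (subgroupOfEquivOfLe h).toEquiv]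
  exact (H.subgroupOf K).card_mul_index

theorem card_sp [Fintype F] : Nat.card (spGL m F) =
    Fintype.card F ^ (m ^ 2) * ∏ i ∈ Finset.range m, (Fintype.card F ^ (2 * (i + 1)) - 1) := by
  rw [Cfsg.Agent.H955.card_spGL, Nat.card_eq_fintype_card]

/-- **a quadratic form, `q` even** -/
theorem form_index [Fintype F] (hm : 1 ≤ m) {R : Subgroup (PSp m F)} {Q : (Fin m ⊕ Fin m → F) → F}
    (hQ : IsNondegenerateQuadraticForm Q) (hpol : ∀ u v, QuadraticMap.polar Q u v = sympForm m F u v)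
    (hR : pre R ≤ isometryGroup F Q) :
    Fintype.card F ^ m * (Fintype.card F ^ m + 1) ∣ 2 * R.index ∨
      Fintype.card F ^ m * (Fintype.card F ^ m - 1) ∣ 2 * R.index := by
  obtain ⟨Q', rfl, hnd⟩ := Cfsg.Agent.H883.Bridge.exists_quadraticForm hQ
  have hι : Fintype.card (Fin m ⊕ Fin m) = 2 * m := by rw [Fintype.card_sum, Fintype.card_fin]; ring
  have hq : 2 ≤ Fintype.card F := Fintype.one_lt_card
  have hO : isometryGroup F (⇑Q') ≤ spGL m F := by
    intro g hg
    have hg' := Cfsg.Agent.LieClassical.OrthFinite.mem_isometryGroup_iff.1 hg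
    rw [mem_spGL_iff]
    intro u v
    rw [← hpol, ← hpol, QuadraticMap.polar, QuadraticMap.polar, ← Matrix.mulVec_add, hg', hg', hg']
  have h1 := relIndex_mul_relIndex _ _ _ hR hO
  rw [index_pre] at h1
  have h2 := card_mul_relIndex hO
  rw [card_sp] at h2
  set N := (isometryGroup F (⇑Q')).relIndex (spGL m F)
  by_cases hP : Cfsg.Agent.H955.IsPlus Q'
  · left
    rw [Cfsg.Agent.H957.card_isometryGroup_plus Q' hnd hm hι hP] at h2
    have h3 := Cfsg.Agent.H957.index_arith hq hm true h2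
    rw [← h1]
    refine Dvd.intro_left ((pre R).relIndex (isometryGroup F (⇑Q'))) ?_
    simp only [if_true] at h3
    rw [← h3]
    ring
  · right
    rw [Cfsg.Agent.H957.card_isometryGroup_minus Q' hnd hm hι hP] at h2
    have h3 := Cfsg.Agent.H957.index_arith hq hm false h2
    rw [← h1]
    refine Dvd.intro_left ((pre R).relIndex (isometryGroup F (⇑Q'))) ?_
    simp only [Bool.false_eq_true, if_false] at h3
    rw [← h3]
    ring

end Form

section Field

variable {K : Subalgebra F (Matrix (Fin 2 ⊕ Fin 2) (Fin 2 ⊕ Fin 2) F)} {R : Subgroup (PSp 2 F)}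

/-- the action of the normaliser on the field -/
noncomputable def galHom (K : Subalgebra F (Matrix (Fin 2 ⊕ Fin 2) (Fin 2 ⊕ Fin 2) F)) :
    subalgebraNormalizer K →* (K ≃ₐ[F] K) where
  toFun g := H922.conjK K g.1 g.2
  map_one' := by
    apply AlgEquiv.ext
    intro x
    apply Subtype.ext
    rw [H922.conjK_apply]
    simp only [_root_.OneMemClass.coe_one, _root_.Units.val_one, _root_.one_mul, _root_.inv_one, _root_.mul_one, _root_.AlgEquiv.one_apply]
  map_mul' g h := by
    apply AlgEquiv.ext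
    intro x
    apply Subtype.ext
    rw [AlgEquiv.mul_apply, H922.conjK_apply, H922.conjK_apply, H922.conjK_apply, Subgroup.coe_mul, mul_inv_rev,
      Units.val_mul, Units.val_mul]
    simp only [mul_assoc]

theorem card_gal [Finite F] (hK : IsFieldSubalgebra 2 K) : Nat.card (K ≃ₐ[F] K) = 2 := by
  have hfield : IsField K :=
    { exists_pair_ne := ⟨0, 1, fun h => by
        have := congrArg Subtype.val h
        exact zero_ne_one (α := Matrix (Fin 2 ⊕ Fin 2) (Fin 2 ⊕ Fin 2) F) this⟩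
      mul_comm := fun x y => Subtype.ext (hK.comm x.1 x.2 y.1 y.2)
      mul_inv_cancel := fun {x} hx => by
        obtain ⟨y, hy, hxy⟩ := hK.inv x.1 x.2 (fun h => hx (Subtype.ext h))
        exact ⟨⟨y, hy⟩, Subtype.ext hxy⟩ }
  letI : Field K := hfield.toField
  haveI : Finite K := Module.finite_of_finite F
  rw [IsGalois.card_aut_eq_finrank]
  exact hK.finrank_eq

theorem hK4 : Fintype.card (Fin 2 ⊕ Fin 2) = 4 := by simp

/-- the `p`-subgroups of the normaliser -/
theorem card_p_normalizer_dvd [Fintype F] (hK : IsFieldSubalgebra 2 K) {p : ℕ} [hp : Fact p.Prime] [CharP F p]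
    (P : Subgroup (GL (Fin 2 ⊕ Fin 2) F)) (hP : IsPGroup p P) (hPN : P ≤ subalgebraNormalizer K) :
    Nat.card P ∣ 2 * Fintype.card F ^ 2 := by
  let ψ : P →* (K ≃ₐ[F] K) := (galHom K).comp (Subgroup.inclusion hPN)
  have h1 : Nat.card P = Nat.card ψ.ker * Nat.card ψ.range := by
    rw [← ψ.ker.card_mul_index, Subgroup.index_ker]
  have h2 : Nat.card ψ.range ∣ 2 := by
    have := Subgroup.card_subgroup_dvd_card ψ.range
    rwa [card_gal hK] at this
  have h3 : Nat.card ψ.ker ∣ Fintype.card F ^ 2 := by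
    have h4 : Nat.card (ψ.ker.map P.subtype) = Nat.card ψ.ker :=
      Subgroup.card_map_of_injective P.subtype_injective
    rw [← h4]
    refine card_p_dvd hK hK4 _ ((hP.to_subgroup ψ.ker).map P.subtype) ?_
    rintro _ ⟨g, hg, rfl⟩ k hk
    have h5 : H922.conjK K (g : GL (Fin 2 ⊕ Fin 2) F) (hPN g.2) = 1 := hg
    have h6 := congrArg (fun φ : K ≃ₐ[F] K => ((φ ⟨k, hk⟩ : K) : Matrix (Fin 2 ⊕ Fin 2) (Fin 2 ⊕ Fin 2) F)) h5
    simp only [H922.conjK_apply, AlgEquiv.one_apply] at h6
    have h7 : (((g : GL (Fin 2 ⊕ Fin 2) F)⁻¹ : GL (Fin 2 ⊕ Fin 2) F) : Matrix (Fin 2 ⊕ Fin 2) (Fin 2 ⊕ Fin 2) F) *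
        ((g : GL (Fin 2 ⊕ Fin 2) F) : Matrix (Fin 2 ⊕ Fin 2) (Fin 2 ⊕ Fin 2) F) = 1 := by
      rw [← Units.val_mul, inv_mul_cancel, Units.val_one]
    show ((g : GL (Fin 2 ⊕ Fin 2) F) : Matrix (Fin 2 ⊕ Fin 2) (Fin 2 ⊕ Fin 2) F) * k = k * _
    conv_rhs => rw [← h6]
    simp only [mul_assoc]
    show _ = _ * (k * (_ * ((g : GL (Fin 2 ⊕ Fin 2) F) : Matrix (Fin 2 ⊕ Fin 2) (Fin 2 ⊕ Fin 2) F)))
    rw [h7, mul_one]
  rw [h1, mul_comm]
  exact Nat.mul_dvd_mul h2 h3

/-- **the `p`-part of the index** -/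
theorem field_index_p [Fintype F] (hK : IsFieldSubalgebra 2 K) (hR : pre R ≤ subalgebraNormalizer K) :
    Fintype.card F ^ 2 ∣ 2 * R.index := by
  obtain ⟨p, hch⟩ := CharP.exists F
  obtain ⟨n, hp, hn⟩ := FiniteField.card F p
  have hpF : Fact p.Prime := ⟨hp⟩
  obtain ⟨P⟩ := (inferInstance : Nonempty (Sylow p (pre R)))
  have h1 : Nat.card (((P : Subgroup (pre R)).map (pre R).subtype :)) ∣ 2 * Fintype.card F ^ 2 :=
    card_p_normalizer_dvd hK _ (P.2.map _) (by
      rintro _ ⟨g, -, rfl⟩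
      exact hR g.2)
  rw [Subgroup.card_map_of_injective (pre R).subtype_injective] at h1
  have h2 : Nat.card (pre R) = Nat.card P * (P : Subgroup (pre R)).index := ((P : Subgroup (pre R)).card_mul_index).symm
  have h3 := card_mul_relIndex (H262.El.pre_le R)
  rw [index_pre, card_sp] at h3
  have h4 : Fintype.card F ^ (2 ^ 2) ∣ Nat.card (pre R) * R.index := by
    rw [h3]
    exact dvd_mul_right _ _
  rw [h2] at h4
  have hq : 0 < Fintype.card F := Fintype.card_pos
  have h5 : Fintype.card F ^ (2 ^ 2) ∣ (2 * Fintype.card F ^ 2) * ((P : Subgroup (pre R)).index * R.index) := by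
    refine h4.trans ?_
    rw [mul_assoc]
    exact Nat.mul_dvd_mul_right h1 _
  have h6 : Fintype.card F ^ 2 * Fintype.card F ^ 2 ∣
      Fintype.card F ^ 2 * ((P : Subgroup (pre R)).index * (2 * R.index)) := by
    have e1 : Fintype.card F ^ 2 * Fintype.card F ^ 2 = Fintype.card F ^ (2 ^ 2) := by ring
    have e2 : Fintype.card F ^ 2 * ((P : Subgroup (pre R)).index * (2 * R.index)) =
        (2 * Fintype.card F ^ 2) * ((P : Subgroup (pre R)).index * R.index) := by ring
    rw [e1, e2]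
    exact h5
  have h7 := Nat.dvd_of_mul_dvd_mul_left (by positivity) h6
  refine Nat.Coprime.dvd_of_dvd_mul_left ?_ h7
  rw [hn]
  exact Nat.Coprime.pow_left _ (Nat.Coprime.pow_left _ ((Nat.Prime.coprime_iff_not_dvd hp).2 P.not_dvd_index))

/-- **odd primes dividing `q ^ 2 - 1`** -/
theorem field_index_r [Fintype F] (hK : IsFieldSubalgebra 2 K) (hsa : IsSelfAdjointFor (sympForm 2 F) K)
    (hR : pre R ≤ subalgebraNormalizer K) {r : ℕ} (hr : r.Prime) (hr2 : r ≠ 2) (hrq : r ∣ Fintype.card F ^ 2 - 1) :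
    r ∣ R.index := by
  classical
  have hrF : Fact r.Prime := ⟨hr⟩
  have hq : 2 ≤ Fintype.card F := Fintype.one_lt_card
  have h0 : (r : F) ≠ 0 := by
    intro h
    obtain ⟨p, hch⟩ := CharP.exists F
    obtain ⟨n, hp, hn⟩ := FiniteField.card F p
    have h1 : p = r := (Nat.prime_dvd_prime_iff_eq hp hr).1 ((CharP.cast_eq_zero_iff F p r).1 h)
    have h2 : r ∣ Fintype.card F ^ 2 := by
      rw [hn, h1]
      exact dvd_pow (dvd_pow_self r n.ne_zero) (by norm_num)
    have h3 := Nat.dvd_sub h2 hrq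
    rw [Nat.sub_sub_self (Nat.one_le_pow _ _ (by omega))] at h3
    exact hr.one_lt.ne' (Nat.dvd_one.1 h3)
  -- an element of order `r` of `SL_2(q)`
  have hsl : r ∣ Nat.card (Matrix.SpecialLinearGroup (Fin 2) F) := by
    rw [Cfsg.Agent.ClassicalGeometry.PSL2Basic.card_SL2]
    exact hrq.mul_left _
  obtain ⟨g, hg⟩ := exists_prime_orderOf_dvd_card' r hsl
  let E : Subgroup (Matrix.symplecticGroup (Fin 2) F) :=
    (Subgroup.pi Set.univ (fun _ : Fin 2 => zpowers g)).map H133.SLPower.phi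
  have hE : IsPGroup r E := by
    rintro ⟨_, A, hA, rfl⟩
    refine ⟨1, ?_⟩
    apply Subtype.ext
    show (H133.SLPower.phi A) ^ (r ^ 1) = 1
    rw [pow_one, ← map_pow]
    have h1 : A ^ r = 1 := by
      funext i
      obtain ⟨k, hk⟩ := mem_zpowers_iff.1 (hA i trivial)
      show (A i) ^ r = 1
      rw [← hk, ← zpow_natCast, ← zpow_mul, mul_comm, zpow_mul, zpow_natCast, ← hg, pow_orderOf_eq_one, one_zpow]
    rw [h1, map_one]
  by_contra hcon
  set! H := R.comap (QuotientGroup.mk' (Subgroup.center (Matrix.symplecticGroup (Fin 2) F))) with hH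
  have hHi : H.index = R.index := index_comap_of_surjective _ (QuotientGroup.mk'_surjective _)
  rw [← hHi] at hcon
  obtain ⟨c, hc⟩ := hE.nonempty_fixed_point_of_prime_not_dvd_card (Matrix.symplecticGroup (Fin 2) F ⧸ H) hcon
  obtain ⟨s, rfl⟩ := QuotientGroup.mk_surjective c
  have hin : ∀ A ∈ Subgroup.pi Set.univ (fun _ : Fin 2 => zpowers g), s⁻¹ * H133.SLPower.phi A * s ∈ H := by
    intro A hA
    have h1 : ((H133.SLPower.phi A * s : Matrix.symplecticGroup (Fin 2) F) : Matrix.symplecticGroup (Fin 2) F ⧸ H) = s :=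
      hc ⟨_, A, hA, rfl⟩
    have h2 := QuotientGroup.eq.1 h1.symm
    rwa [← mul_assoc] at h2
  let a : Fin 2 → Matrix.SpecialLinearGroup (Fin 2) F := ![g, 1]
  let b : Fin 2 → Matrix.SpecialLinearGroup (Fin 2) F := ![1, g]
  have ha : a ∈ Subgroup.pi Set.univ (fun _ : Fin 2 => zpowers g) := by
    intro i _
    show a i ∈ zpowers g
    fin_cases i
    · exact mem_zpowers g
    · exact Subgroup.one_mem _
  have hb : b ∈ Subgroup.pi Set.univ (fun _ : Fin 2 => zpowers g) := by
    intro i _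
    show b i ∈ zpowers g
    fin_cases i
    · exact Subgroup.one_mem _
    · exact mem_zpowers g
  have hgr : g ^ r = 1 := by rw [← hg]; exact pow_orderOf_eq_one g
  have har : a ^ r = 1 := by
    funext i
    fin_cases i
    · exact hgr
    · exact one_pow r
  have hbr : b ^ r = 1 := by
    funext i
    fin_cases i
    · exact one_pow r
    · exact hgr
  have hab : a * b = b * a := by
    funext i
    fin_cases i
    · show g * 1 = 1 * g
      rw [mul_one, one_mul]
    · show 1 * g = g * 1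
      rw [mul_one, one_mul]
  have hg1 : g ≠ 1 := by
    rintro rfl
    rw [orderOf_one] at hg
    exact hr.one_lt.ne hg
  let θ : (Fin 2 → Matrix.SpecialLinearGroup (Fin 2) F) →* GL (Fin 2 ⊕ Fin 2) F :=
    (spToGL 2 F).comp (((MulAut.conj s⁻¹).toMonoidHom).comp H133.SLPower.phi)
  have hθinj : Function.Injective θ :=
    H262.El.spToGL_injective.comp ((MulAut.conj s⁻¹).injective.comp H133.SLPower.phi_injective)
  have hθ : ∀ A ∈ Subgroup.pi Set.univ (fun _ : Fin 2 => zpowers g), θ A ∈ pre R := by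
    intro A hA
    refine ⟨s⁻¹ * H133.SLPower.phi A * s, hin A hA, ?_⟩
    show _ = spToGL 2 F (MulAut.conj s⁻¹ (H133.SLPower.phi A))
    rw [MulAut.conj_apply, inv_inv]
  have hiso : ∀ A, Isom (sympForm 2 F) (lin (θ A)) := by
    intro A u v
    have h1 := spToGL_mem (MulAut.conj s⁻¹ (H133.SLPower.phi A))
    have h2 := mem_spGL_iff.1 h1 u v
    show sympForm 2 F (Matrix.toLin' _ u) (Matrix.toLin' _ v) = _
    rw [Matrix.toLin'_apply, Matrix.toLin'_apply]
    exact h2
  refine no_pair hK frm_symp nd_symp hsa hK4 (hR (hθ a ha)) (hR (hθ b hb)) (hiso a) (hiso b) hr hr2 h0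
    (by rw [← map_pow, har, map_one]) (by rw [← map_pow, hbr, map_one]) (by rw [← map_mul, ← map_mul, hab]) ?_ ?_
  · intro h
    have h1 := hθinj (h.trans (map_one θ).symm)
    exact hg1 (congrFun h1 1)
  · intro i h
    rw [← map_pow, ← map_mul] at h
    have h1 := hθinj (h.trans (map_one θ).symm)
    have h2 : g * 1 ^ i = 1 := congrFun h1 0
    rw [one_pow, mul_one] at h2
    exact hg1 h2

end Field

end Cfsg.Agent.H57.BG
end
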